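import Cfsg.Agent.H424.Spr.Core

/-!
# 3/2-generation: two proper subgroups covering the overgroups (helper427, S3938)

* `spr_of_pair` : every proper overgroup of `s` is in `M₁` or in `M₂`, `M₁`, `M₂` proper and not conjugate.
-/

set_option autoImplicit false

namespace Cfsg.Agent.H427.Sg

open Cfsg.Agent.H424.Spr
open scoped Pointwise

variable {L : Type*} [Group L] [IsSimpleGroup L] [Finite L]

omit [IsSimpleGroup L] in
/-- it is enough to consider coatoms -/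
theorem le_of_coatom {s : L} {P : Subgroup L → Prop} (hmono : ∀ K N : Subgroup L, K ≤ N → P N → P K)
    (h : ∀ K : Subgroup L, s ∈ K → IsCoatom K → P K) (K : Subgroup L) (hs : s ∈ K) (hK : K ≠ ⊤) : P K := by
  obtain ⟨N, hN, hKN⟩ := (eq_top_or_exists_le_coatom K).resolve_left hK
  exact hmono K N hKN (h N (hKN hs) hN)

/-- **two proper subgroups** -/
theorem spr_of_pair (hna : ∃ x y : L, x * y ≠ y * x) {s : L} {M₁ M₂ : Subgroup L} (h1 : M₁ ≠ ⊤) (h2 : M₂ ≠ ⊤)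
    (hs1 : s ∈ M₁) (hs2 : s ∈ M₂) (hnc : ∀ y : L, MulAut.conj y • M₁ ≠ M₂)
    (h : ∀ K : Subgroup L, s ∈ K → IsCoatom K → K ≤ M₁ ∨ K ≤ M₂) : Spr L := by
  have h' : ∀ K : Subgroup L, s ∈ K → K ≠ ⊤ → K ≤ M₁ ∨ K ≤ M₂ :=
    le_of_coatom (fun K N hKN hN => hN.imp (fun h => hKN.trans h) (fun h => hKN.trans h)) h
  by_cases h12 : M₁ ≤ M₂
  · exact spr_of_one hna h2 fun K hs hK => (h' K hs hK).elim (fun h => h.trans h12) id
  by_cases h21 : M₂ ≤ M₁
  · exact spr_of_one hna h1 fun K hs hK => (h' K hs hK).elim id (fun h => h.trans h21)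
  have key : ∀ A B : Subgroup L, A ≠ ⊤ → s ∈ A → ¬ A ≤ B → (∀ K : Subgroup L, s ∈ K → IsCoatom K → K ≤ A ∨ K ≤ B) →
      IsCoatom A := by
    intro A B hA hsA hAB hK
    obtain ⟨N, hN, hAN⟩ := (eq_top_or_exists_le_coatom A).resolve_left hA
    rcases hK N (hAN hsA) hN with h3 | h3
    · rw [le_antisymm hAN h3]
      exact hN
    · exact absurd (hAN.trans h3) hAB
  exact spr_of_two hna (key M₁ M₂ h1 hs1 h12 h) (key M₂ M₁ h2 hs2 h21 fun K hs hK => (h K hs hK).symm) hnc h'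

/-- **one proper subgroup** -/
theorem spr_of_single (hna : ∃ x y : L, x * y ≠ y * x) {s : L} {M : Subgroup L} (h1 : M ≠ ⊤)
    (h : ∀ K : Subgroup L, s ∈ K → IsCoatom K → K ≤ M) : Spr L :=
  spr_of_one hna h1 (le_of_coatom (fun _ _ hKN hN => hKN.trans hN) h)

end Cfsg.Agent.H427.Sg
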