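import Cfsg.Agent.H427.Sg.Geo
import Cfsg.Agent.H427.Sg.Core
import Cfsg.Agent.H427.Fc.SmD
import Cfsg.Agent.S5662

/-!
# `PSp₂ₘ(q)`, `q` even: two subgroups covering the overgroups of an element with two blocks (helper427, S3938)

* `Sgs ρ W`    : the stabiliser of a subspace;
* `spr_blocks` : `Spr (PSp m F)` if no proper overgroup of `s` is in the residual class.
-/

set_option autoImplicit false
set_option linter.unusedSectionVars false

namespace Cfsg.Agent.H427.Sg

open Module Cfsg Cfsg.Geo Cfsg.Agent.H951 Cfsg.Agent.H427.Fc Cfsg.Agent.H424.Spr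
open Cfsg.Agent.ClassicalGeometry.SympBasic Cfsg.Agent.H876 Cfsg.Agent.H931 Cfsg.Agent.H262.El
open scoped Matrix MatrixGroups Pointwise

universe u

section

variable {T F V : Type*} [Group T] [Field F] [AddCommGroup V] [Module F V]

/-- the stabiliser of a subspace -/
def Sgs (ρ : T →* Module.End F V) (W : Submodule F V) : Subgroup T where
  carrier := {t | Inv (ρ t) W ∧ Inv (ρ t⁻¹) W}
  mul_mem' := fun {s t} hs ht => ⟨fun w hw => by
      rw [map_mul, Module.End.mul_apply]; exact hs.1 _ (ht.1 _ hw), fun w hw => by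
      rw [mul_inv_rev, map_mul, Module.End.mul_apply]; exact ht.2 _ (hs.2 _ hw)⟩
  one_mem' := ⟨fun w hw => by rw [map_one]; exact hw, fun w hw => by rw [inv_one, map_one]; exact hw⟩
  inv_mem' := fun {s} hs => ⟨hs.2, by rw [inv_inv]; exact hs.1⟩

theorem mem_sgs {ρ : T →* Module.End F V} {W : Submodule F V} {t : T} :
    t ∈ Sgs ρ W ↔ Inv (ρ t) W ∧ Inv (ρ t⁻¹) W := Iff.rfl

theorem le_sgs {ρ : T →* Module.End F V} {W : Submodule F V} {H : Subgroup T} (h : ∀ t ∈ H, Inv (ρ t) W) :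
    H ≤ Sgs ρ W := fun t ht => ⟨h t ht, h _ (H.inv_mem ht)⟩

variable [FiniteDimensional F V] [Finite F] {B : V → V → F} {ρ : T →* Module.End F V} {x : Module.End F V}
  {W U : Submodule F V}

/-- the transvections with centre in `W` -/
theorem tv_inv (hB : Sy B) {w : V} (hw : w ∈ W) (c : F) : Inv (hB.tv w c).toLinearMap W := by
  intro v hv
  change v + (c * B v w) • w ∈ W
  exact W.add_mem hv (W.smul_mem _ hw)

theorem tv_tv (hB : Sy B) (w : V) (c : F) (v : V) : hB.tv w c (hB.tv w c v) = v := (hB.tv w c).left_inv v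

theorem tv_mem_sgs (hB : Sy B) {w : V} (hw : w ∈ W) {c : F} {t : T} (ht : ρ t = (hB.tv w c).toLinearMap) :
    t ∈ Sgs ρ W := by
  refine ⟨by rw [ht]; exact tv_inv hB hw c, ?_⟩
  have h1 : ρ t⁻¹ = (hB.tv w c).toLinearMap := by
    apply LinearMap.ext
    intro v
    have h2 : ρ t (hB.tv w c v) = v := by
      rw [ht]
      exact tv_tv hB w c v
    conv_lhs => rw [← h2]
    rw [← Module.End.mul_apply, ← map_mul, inv_mul_cancel, map_one]
    rfl
  rw [h1]
  exact tv_inv hB hw c

/-- two orthogonal vectors of `W` -/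
theorem exists_orth (hB : Sy B) (h3 : 3 ≤ finrank F W) : ∃ w₁ ∈ W, ∃ w₂ ∈ W, w₁ ≠ 0 ∧ w₂ ≠ 0 ∧ w₁ + w₂ ≠ 0 ∧
    B w₁ w₂ = 0 := by
  have h0 : W ≠ ⊥ := by
    rintro rfl
    rw [finrank_bot] at h3
    omega
  obtain ⟨w₁, hw₁, hne⟩ := (Submodule.ne_bot_iff _).1 h0
  let f : W →ₗ[F] F := (hB.fn w₁).comp W.subtype
  have hf := LinearMap.finrank_range_add_finrank_ker f
  have h4 : finrank F (LinearMap.range f) ≤ 1 := by
    have := Submodule.finrank_le (LinearMap.range f)
    rwa [finrank_self] at this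
  have h5 : finrank F (F ∙ (⟨w₁, hw₁⟩ : W)) ≤ 1 :=
    (finrank_span_le_card ({(⟨w₁, hw₁⟩ : W)} : Set W)).trans (by simp)
  have h6 : ¬ (LinearMap.ker f ≤ F ∙ (⟨w₁, hw₁⟩ : W)) := by
    intro h7
    have := Submodule.finrank_mono h7
    omega
  obtain ⟨w₂, hw₂, hn⟩ := Set.not_subset.1 h6
  refine ⟨w₁, hw₁, w₂.1, w₂.2, hne, fun h7 => hn ?_, fun h7 => hn ?_, ?_⟩
  · have : w₂ = 0 := Subtype.ext h7
    rw [this]
    exact Submodule.zero_mem _
  · rw [SetLike.mem_coe, Submodule.mem_span_singleton]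
    refine ⟨-1, Subtype.ext ?_⟩
    change (-1 : F) • w₁ = w₂.1
    rw [neg_one_smul]
    exact (eq_neg_of_add_eq_zero_right h7).symm
  · have h8 : B w₂.1 w₁ = 0 := hw₂
    rw [hB.symm]
    exact h8

/-- not all transvections of `W` fix a quadratic form -/
theorem exists_tv_ne (hB : Sy B) (h3 : 3 ≤ finrank F W) {Q : V → F} (hQ : Qf B Q) :
    ∃ w ∈ W, ∃ v, Q (hB.tv w 1 v) ≠ Q v := by
  by_contra hcon
  push Not at hcon
  have key : ∀ w ∈ W, w ≠ 0 → Q w = 1 := by
    intro w hw hne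
    by_contra h1
    apply hne
    refine hB.nd _ fun v => ?_
    have h2 := hcon w hw v
    rw [hQ.tv hB] at h2
    have h4 : (Q w + 1) * (B v w * B v w) = 0 := by linear_combination h2
    rcases mul_eq_zero.1 h4 with h5 | h5
    · exfalso
      apply h1
      linear_combination h5 - hB.two
    · rw [hB.symm]
      exact mul_self_eq_zero.1 h5
  obtain ⟨w₁, hw₁, w₂, hw₂, h5, h6, h7, h8⟩ := exists_orth hB h3
  have h9 := hQ.polar w₁ w₂
  rw [key _ hw₁ h5, key _ hw₂ h6, key _ (W.add_mem hw₁ hw₂) h7, h8] at h9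
  exact one_ne_zero (α := F) (by linear_combination h9 + hB.two)

/-- the stabiliser of a quadratic form does not contain the stabiliser of `W` -/
theorem not_sgs_le (hB : Sy B) (hR : Rp B ρ) (h3 : 3 ≤ finrank F W) {Q : V → F} (hQ : Qf B Q) :
    ¬ Sgs ρ W ≤ St ρ Q := by
  intro h
  obtain ⟨w, hw, v, hv⟩ := exists_tv_ne hB h3 hQ
  obtain ⟨t, ht⟩ := hR.full (hB.tv w 1) (hB.tv_iso w 1)
  have h1 := (h (tv_mem_sgs hB hw ht)) v
  rw [ht] at h1
  exact hv h1

/-- the stabiliser of `W` is proper -/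
theorem sgs_ne_top (hB : Sy B) (hR : Rp B ρ) (h : Two x W U) (hp : ∀ w ∈ W, ∀ u ∈ U, B w u = 0) : Sgs ρ W ≠ ⊤ := by
  intro htop
  obtain ⟨w, hw, hw0⟩ := (Submodule.ne_bot_iff _).1 h.iW.1
  obtain ⟨u, hu, hu0⟩ := (Submodule.ne_bot_iff _).1 h.iU.1
  -- `v ∈ W` with `B v w ≠ 0`
  obtain ⟨v, hv, hvw⟩ : ∃ v ∈ W, B v w ≠ 0 := by
    by_contra hcon
    push Not at hcon
    apply hw0
    refine hB.nd _ fun z => ?_
    have h1 : z ∈ W ⊔ U := by rw [h.compl.sup_eq_top]; exact Submodule.mem_top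
    obtain ⟨w', hw', u', hu', rfl⟩ := Submodule.mem_sup.1 h1
    rw [hB.add', hp w hw u' hu', add_zero, hB.symm]
    exact hcon w' hw'
  obtain ⟨t, ht⟩ := hR.full (hB.tv (w + u) 1) (hB.tv_iso (w + u) 1)
  have h1 : t ∈ Sgs ρ W := by rw [htop]; trivial
  have h2 := h1.1 v hv
  rw [ht] at h2
  have h3 : v + (1 * B v (w + u)) • (w + u) ∈ W := h2
  have h4 := W.sub_mem h3 hv
  rw [add_sub_cancel_left, hB.add', hp v hv u hu, add_zero, one_mul] at h4
  have h5 : w + u ∈ W := by
    have := W.smul_mem (B v w)⁻¹ h4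
    rwa [smul_smul, inv_mul_cancel₀ hvw, one_smul] at this
  have h6 : u ∈ W := by
    have := W.sub_mem h5 hw
    rwa [add_sub_cancel_left] at this
  have h7 : u ∈ W ⊓ U := ⟨h6, hu⟩
  rw [h.compl.inf_eq_bot] at h7
  exact hu0 h7

theorem qf_conj (hR : Rp B ρ) {Q : V → F} (hQ : Qf B Q) (t : T) : Qf B fun v => Q (ρ t v) where
  smul := fun c v => by rw [map_smul, hQ.smul]
  polar := fun v w => by rw [map_add, hQ.polar, hR.iso]

/-- conjugates of the stabiliser of a form are such stabilisers -/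
theorem conj_st (Q : V → F) (y : T) : MulAut.conj y • St ρ Q = St ρ fun v => Q (ρ y⁻¹ v) := by
  ext t
  rw [Subgroup.mem_pointwise_smul_iff_inv_smul_mem, MulAut.smul_def]
  have h1 : ((MulAut.conj y)⁻¹) t = y⁻¹ * t * y := by
    rw [← map_inv, MulAut.conj_apply, inv_inv]
  rw [h1, mem_st, mem_st]
  constructor
  · intro h v
    have h2 := h (ρ y⁻¹ v)
    rw [map_mul, map_mul, Module.End.mul_apply, Module.End.mul_apply, rho_inv_apply] at h2
    exact h2
  · intro h v
    have h2 := h (ρ y v)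
    rw [rho_inv_apply'] at h2
    rw [map_mul, map_mul, Module.End.mul_apply, Module.End.mul_apply]
    exact h2

end

theorem coatom_map {G G' : Type*} [Group G] [Group G'] (e : G ≃* G') {K : Subgroup G} (hK : IsCoatom K) :
    IsCoatom (K.map e.toMonoidHom) := (e.mapSubgroup.isCoatom_iff K).2 hK

variable {F : Type u} [Field F] [Fintype F] {m : ℕ}

/-- **`q` even: the criterion.** -/
theorem spr_blocks [IsSimpleGroup (PSp m F)] (hna : ∃ x y : PSp m F, x * y ≠ y * x)
    {a b : ℕ} (hab : a + b = m) (hb : 1 ≤ b) (hba : b < a) (hcop : Nat.Coprime a b)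
    (hexc : ¬ (Fintype.card F = 2 ∧ a = 3)) (heven : ¬ Odd (Fintype.card F))
    {s : Matrix.symplecticGroup (Fin m) F} {W U : Submodule F (Fin m ⊕ Fin m → F)} (h : El F m a b s W U)
    (hres : ∀ K : Subgroup (PSp m F), IsCoatom K → (QuotientGroup.mk s : PSp m F) ∈ K →
      ¬ InSymplecticResidualClass (pre K)) : Spr (PSp m F) := by
  have h2 := two_zero_of heven
  have hB := sy_symp (m := m) h2
  have hR := rp_symp (F := F) (m := m)
  have hm3 : 3 ≤ m := by omega
  have hev : Even (Fintype.card F) := Nat.not_odd_iff_even.1 heven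
  let e := spmEquiv (F := F) (m := m) (by omega) hev
  have hemk : ∀ B, e B = (QuotientGroup.mk B : PSp m F) := fun _ => rfl
  -- the invariant quadratic form
  have hodd : Odd ((Fintype.card F ^ a + 1) * (Fintype.card F ^ b + 1)) :=
    ((hev.pow_of_ne_zero (by omega)).add_odd odd_one).mul ((hev.pow_of_ne_zero (by omega)).add_odd odd_one)
  obtain ⟨Q, hQ, hQs⟩ := exists_avg hB (qf_symp h2) (hR.iso s) hodd (by rw [← map_pow, h.ord, map_one])
  have hfx : fx (rhoSp m F s) = ⊥ := h.two.fx_bot (by rw [h.dW]; omega) (by rw [h.dU]; omega)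
  have hW3 : 3 ≤ finrank F W := by rw [h.dW]; omega
  have hsW : s ∈ Sgs (rhoSp m F) W := by
    refine ⟨h.two.iW.2.1, ?_⟩
    have h3 : s⁻¹ = s ^ ((Fintype.card F ^ a + 1) * (Fintype.card F ^ b + 1) - 1) := by
      refine inv_eq_of_mul_eq_one_right ?_
      rw [← pow_succ', Nat.sub_add_cancel (Nat.mul_pos (Nat.succ_pos _) (Nat.succ_pos _)), h.ord]
    rw [h3, map_pow]
    exact h.two.iW.2.1.pow _
  -- transport
  have L : Spr (Matrix.symplecticGroup (Fin m) F) := by
    have hs : IsSimpleGroup (Matrix.symplecticGroup (Fin m) F) := e.symm.isSimpleGroup_congr.1 inferInstance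
    have hfin : Finite (Matrix.symplecticGroup (Fin m) F) := inferInstance
    have hna' : ∃ x y : Matrix.symplecticGroup (Fin m) F, x * y ≠ y * x := by
      obtain ⟨x, y, hxy⟩ := hna
      refine ⟨e.symm x, e.symm y, fun h3 => hxy ?_⟩
      rw [← map_mul, ← map_mul] at h3
      exact e.symm.injective h3
    refine spr_of_pair hna' (s := s) (M₁ := St (rhoSp m F) Q) (M₂ := Sgs (rhoSp m F) W) ?_
      (sgs_ne_top hB hR h.two h.perp) (fun v => hQs v) hsW ?_ ?_
    · intro h3
      exact not_sgs_le hB hR hW3 hQ (by rw [h3]; exact le_top)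
    · intro y h3
      rw [conj_st] at h3
      exact not_sgs_le hB hR hW3 (qf_conj hR hQ y⁻¹) h3.ge
    · intro K hsK hK
      have hK' := coatom_map e hK
      have hmem : ∀ B, spToGL m F B ∈ pre (K.map e.toMonoidHom) ↔ B ∈ K := by
        intro B
        rw [mem_pre, ← hemk]
        constructor
        · rintro ⟨B', hB', h5⟩
          have h6 : B' = B := e.injective h5
          rwa [← h6]
        · intro h4
          exact ⟨B, h4, rfl⟩
      rcases Cfsg.Agent.S5662.result m (by omega) (fun h3 => by omega) (pre (K.map e.toMonoidHom)) (pre_le _) (by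
        rw [sup_eq_left.2 (scalars_le_pre _)]
        exact pre_ne hK'.1) with ⟨M, hM, hle⟩ | h3
      · rcases geo_two hab hb hba hcop hexc heven h ((hmem s).2 hsK) hM hle with h4 | ⟨Q', hQ', h4⟩
        · right
          exact le_sgs fun B hB' => h4 B ((hmem B).2 hB')
        · left
          have h5 : ∀ v, Q v = Q' v := qf_unique hB hQ hQ' (hR.iso s) hQs (h4 s ((hmem s).2 hsK)) hfx
          intro B hB' v
          rw [h5, h5]
          exact h4 B ((hmem B).2 hB') v
      · exact absurd h3 (hres _ hK' ⟨s, hsK, rfl⟩)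
  exact L.congr e

end Cfsg.Agent.H427.Sg
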