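import Cfsg.Agent.H427.Sg.Uniq
import Cfsg.Agent.H427.Sg.Pair

/-!
# Singer cycles of the symplectic groups, `q` even (helper427, S3938)

* `tv_not_mem` : transvections do not normalise a field;
* `geo_singer` : a geometric overgroup of a Singer cycle fixes a quadratic form or normalises a field.
* `spr_singer` : `Spr (PSp m F)` if `m` has only one prime divisor and no overgroup is in the residual class.
-/

set_option autoImplicit false
set_option linter.unusedSectionVars false

namespace Cfsg.Agent.H427.Sg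

open Module Cfsg Cfsg.Geo Cfsg.Agent.H951 Cfsg.Agent.H427.Fc Cfsg.Agent.H424.Spr
open Cfsg.Agent.ClassicalGeometry.SympBasic Cfsg.Agent.H876 Cfsg.Agent.H931 Cfsg.Agent.H262.El
open Cfsg.Agent.H884.El (PP exists_char one_lt_q)
open scoped Matrix MatrixGroups Pointwise

universe u

variable {F : Type u} [Field F] [Fintype F] {m : ℕ}

/-- transvections do not normalise a field -/
theorem tv_not_mem (h2 : (2 : F) = 0) (hm : 2 ≤ m) {w : Fin m ⊕ Fin m → F} (hw : w ≠ 0) {c : F} (hc : c ≠ 0)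
    {t : Matrix.symplecticGroup (Fin m) F} (ht : rhoSp m F t = ((sy_symp h2).tv w c).toLinearMap) {r : ℕ} (hr : 2 ≤ r)
    {K : Subalgebra F (Matrix (Fin m ⊕ Fin m) (Fin m ⊕ Fin m) F)} (hK : IsFieldSubalgebra r K) :
    spToGL m F t ∉ subalgebraNormalizer K := by
  have hv : ∀ v, t.1 *ᵥ v = v + (c * sympForm m F v w) • w := by
    intro v
    rw [← rhoSp_apply, ht]
    rfl
  refine rankOne_not_mem_subalgebraNormalizer (by simp; omega) ⟨w, c • (Matrix.J (Fin m) F *ᵥ w), hw, ?_, ?_⟩ hr hK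
  · intro h0
    apply hw
    apply eq_zero_of_forall_sympForm_left
    intro u
    have h3 : Matrix.J (Fin m) F *ᵥ w = 0 := (smul_eq_zero.1 h0).resolve_left hc
    rw [sympForm, h3, dotProduct_zero]
  · change t.1 = _
    apply Matrix.toLin'.injective
    apply LinearMap.ext
    intro v
    rw [Matrix.toLin'_apply, Matrix.toLin'_apply, hv, Matrix.add_mulVec, Matrix.one_mulVec, Matrix.vecMulVec_mulVec,
      smul_dotProduct, dotProduct_comm, op_smul_eq_smul]
    rfl

/-- the data of a Singer cycle -/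
structure Sng (F : Type u) [Field F] [Fintype F] (m : ℕ) (s : Matrix.symplecticGroup (Fin m) F) : Prop where
  irr : Irr (rhoSp m F s) ⊤
  ord : orderOf s = Fintype.card F ^ m + 1

theorem Sng.exists (hm : 1 ≤ m) : ∃ s, Sng F m s := by
  obtain ⟨s, h1, h2⟩ := exists_singer (F := F) hm
  exact ⟨s, h1, h2⟩

/-- a power of prime order -/
theorem Sng.exists_z (hm : 1 ≤ m) {s : Matrix.symplecticGroup (Fin m) F} (h : Sng F m s) {r : ℕ}
    (hr : PP (Nat.card F) (2 * m) r) (hrd : r ∣ Fintype.card F ^ m + 1) :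
    ∃ k : ℕ, orderOf (s ^ k) = r ∧ Irr (rhoSp m F (s ^ k)) ⊤ := by
  have hne : Nonempty (Fin m ⊕ Fin m) := ⟨Sum.inl ⟨0, by omega⟩⟩
  obtain ⟨d, hd⟩ := hrd
  have hd0 : d ≠ 0 := by
    rintro rfl
    rw [mul_zero] at hd
    omega
  have ho : orderOf (s ^ d) = r := by
    rw [orderOf_pow' _ hd0, h.ord, hd, Nat.gcd_eq_right (Dvd.intro_left r rfl), Nat.mul_div_cancel _ (Nat.pos_of_ne_zero hd0)]
  refine ⟨d, ho, ?_⟩
  have hod : Od (Fintype.card F) (Fintype.card (Fin m ⊕ Fin m)) r := by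
    have hι : Fintype.card (Fin m ⊕ Fin m) = 2 * m := by simp [two_mul]
    rw [hι]
    refine ⟨hr.prime, by rw [← Nat.card_eq_fintype_card]; exact hr.ord, ?_⟩
    rw [← Nat.card_eq_fintype_card]
    exact hr.not_dvd (by omega)
  have h1 : (spToGL m F (s ^ d)) ^ r = 1 := by
    rw [← map_pow, ← ho, pow_orderOf_eq_one, map_one]
  have h2 : spToGL m F (s ^ d) ≠ 1 := by
    intro h3
    have h4 : s ^ d = 1 := spToGL_injective (by rw [h3, map_one])
    rw [h4, orderOf_one] at ho
    exact hr.prime.one_lt.ne ho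
  refine ⟨fun h3 => ?_, inv_top, fun X _ hX => ?_⟩
  · have h4 : finrank F (⊤ : Submodule F (Fin m ⊕ Fin m → F)) = 0 := by rw [h3, finrank_bot]
    rw [finrank_top, Module.finrank_fintype_fun_eq_card] at h4
    have h5 : 0 < Fintype.card (Fin m ⊕ Fin m) := Fintype.card_pos
    omega
  · exact irr_of_od hod h1 h2 X fun v hv => by
      have := hX v hv
      rwa [rhoSp_apply] at this

/-- **The geometric overgroups of a Singer cycle, `q` even.** -/
theorem geo_singer (hm : 2 ≤ m) (hexc : ¬ (Fintype.card F = 2 ∧ m = 3)) (heven : ¬ Odd (Fintype.card F))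
    {s : Matrix.symplecticGroup (Fin m) F} (h : Sng F m s)
    {H M : Subgroup (GL (Fin m ⊕ Fin m) F)} (hs : spToGL m F s ∈ H) (hM : InSymplecticClass m F M) (hHM : H ≤ M) :
    (∃ Q : (Fin m ⊕ Fin m → F) → F, Qf (sympForm m F) Q ∧
      ∀ B : Matrix.symplecticGroup (Fin m) F, spToGL m F B ∈ H → ∀ v, Q (rhoSp m F B v) = Q v) ∨
    (∃ (r : ℕ) (K : Subalgebra F (Matrix (Fin m ⊕ Fin m) (Fin m ⊕ Fin m) F)), r.Prime ∧ r ∣ 2 * m ∧
      IsFieldSubalgebra r K ∧ IsSelfAdjointFor (sympForm m F) K ∧ H ≤ subalgebraNormalizer K) := by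
  have h2 := two_zero_of heven
  have hsy := sy_symp (m := m) h2
  have hι : Fintype.card (Fin m ⊕ Fin m) = 2 * m := by simp [two_mul]
  have hne : Nonempty (Fin m ⊕ Fin m) := ⟨Sum.inl ⟨0, by omega⟩⟩
  have hfin : Finite (GL (Fin m ⊕ Fin m) F) := inferInstance
  obtain ⟨p, f, r, hp, hf, hpF, hpr, hqr, hrd⟩ := exists_prim F (a := m) (by omega) hexc
  have hrH : r ∣ Nat.card H := by
    have h1 : orderOf (spToGL m F s) ∣ Nat.card H := by
      rw [← Subgroup.orderOf_mk _ hs]
      exact orderOf_dvd_natCard _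
    rw [orderOf_injective _ spToGL_injective, h.ord] at h1
    exact hrd.trans h1
  have hrlt := hqr.lt (by omega)
  -- stabilisers of subspaces
  have hstab : ∀ W' : Submodule F (Fin m ⊕ Fin m → F), W' ≠ ⊥ → W' ≠ ⊤ → ¬ H ≤ subspaceStabilizer W' := by
    intro W' h0 h1 hle
    rcases h.irr.2.2 W' le_top (mem_stab (hle hs)) with h5 | h5
    · exact h0 h5
    · exact h1 h5
  rcases hM with hM | hM | hM | hM | hM
  · rcases hM with hM | hM | hM | hM | hM | hM | hM
    · obtain ⟨W', hW0, hW, rfl⟩ := hM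
      exact absurd (hHM.trans inf_le_left) (hstab W' hW0 (totallySingular_ne_top (by omega) hW))
    · obtain ⟨W', hW0, hW, hW2, rfl⟩ := hM
      refine absurd (hHM.trans inf_le_left) (hstab W' hW0 ?_)
      rintro rfl
      rw [finrank_top, Module.finrank_fintype_fun_eq_card, hι] at hW2
      omega
    · obtain ⟨t, k, D, hD, rfl⟩ := hM
      exfalso
      have h3 := decomp_card hD.decomp
      rw [hι] at h3
      have ht := hD.decomp.two_le
      have hk := hD.decomp.pos
      have h4 : 2 * k ≤ t * k := Nat.mul_le_mul_right _ ht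
      have h5 : t * 1 ≤ t * k := Nat.mul_le_mul_left _ hk
      have h6 := H884.El.decomp_le hD.decomp (hHM.trans inf_le_left) hqr (by omega) hrH
      omega
    · obtain ⟨D, h3, -⟩ := hM
      exact absurd h3 heven
    · obtain ⟨F₀, s', P, ζ, hs', hcard, -, -, rfl⟩ := hM
      exfalso
      exact H884.El.kill_subfield (hHM.trans inf_le_left) hs' (by rw [Nat.card_eq_fintype_card]; exact hcard) hp hpF hpr
        (by rw [hι]; omega) (by omega) hrH
    · obtain ⟨R, p', k, -, -, -, hp', hodd', hFp, -⟩ := hM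
      exfalso
      rw [hFp] at heven
      exact heven hodd'
    · obtain ⟨Q, -, hQ, hpol, rfl⟩ := hM
      left
      have hHQ : H ≤ isometryGroup F Q := fun g hg => mem_isometry (by omega) hpol (hHM hg).1 (hHM hg).2
      obtain ⟨Q', hQ', -⟩ := Cfsg.Agent.H883.Bridge.exists_quadraticForm hQ
      refine ⟨⇑Q', qf_of fun u v => ?_, fun B hBH v => ?_⟩
      · rw [hQ']
        exact hpol u v
      · rw [hQ', rhoSp_apply]
        exact (ClassicalGeometry.Reflection.mem_isometryGroup_iff _ _).1 (hHQ hBH) v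
  · obtain ⟨s', K, hs', hK, hsa, -, rfl⟩ := hM
    right
    refine ⟨s', K, hs', ?_, hK, hsa, hHM.trans inf_le_left⟩
    let _ : Field K := (H912.isField_of_fieldSub hK).toField
    have h5 := Module.finrank_mul_finrank F K (Fin m ⊕ Fin m → F)
    rw [hK.finrank_eq, Module.finrank_fintype_fun_eq_card, hι] at h5
    exact Dvd.intro _ h5
  · obtain ⟨K, h3, -⟩ := hM
    exact absurd h3 heven
  · obtain ⟨n₁, n₂, e, P, f₁, f₂, h3, -⟩ := hM
    exact absurd h3 heven
  · obtain ⟨k, t, e, P, f₁, h3, -⟩ := hM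
    exact absurd h3 heven

/-- **uniqueness of the field** -/
theorem Sng.unique (hm : 2 ≤ m) (hexc : ¬ (Fintype.card F = 2 ∧ m = 3)) {s : Matrix.symplecticGroup (Fin m) F}
    (h : Sng F m s) {r : ℕ} (hr : r.Prime) (hrm : r ∣ 2 * m)
    {K K' : Subalgebra F (Matrix (Fin m ⊕ Fin m) (Fin m ⊕ Fin m) F)} (hK : IsFieldSubalgebra r K)
    (hK' : IsFieldSubalgebra r K') (hs : spToGL m F s ∈ subalgebraNormalizer K)
    (hs' : spToGL m F s ∈ subalgebraNormalizer K') : K = K' := by
  have hne : Nonempty (Fin m ⊕ Fin m) := ⟨Sum.inl ⟨0, by omega⟩⟩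
  obtain ⟨p, f, u, hp, hf, hpF, hpu, hqu, hud⟩ := exists_prim F (a := m) (by omega) hexc
  have hult := hqu.lt (by omega)
  obtain ⟨k, ho, hirr⟩ := h.exists_z (by omega) hqu hud
  have hcop : Nat.Coprime u r := by
    refine (Nat.coprime_primes hqu.prime hr).2 ?_
    have := Nat.le_of_dvd (by omega) hrm
    omega
  have hcomm : ∀ L : Subalgebra F (Matrix (Fin m ⊕ Fin m) (Fin m ⊕ Fin m) F), IsFieldSubalgebra r L →
      spToGL m F s ∈ subalgebraNormalizer L → ∀ x ∈ L, x * (s ^ k).1 = (s ^ k).1 * x := by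
    intro L hL hsL x hx
    have h1 : spToGL m F (s ^ k) ∈ subalgebraNormalizer L := by
      rw [map_pow]
      exact Subgroup.pow_mem _ hsL k
    exact (comm_field' hL h1 hcop (by rw [← map_pow, ← ho, pow_orderOf_eq_one, map_one]) x hx).symm
  exact field_unique (z := (s ^ k).1) hirr hK hK' (hcomm K hK hs) (hcomm K' hK' hs')

/-- the degree divides `m` -/
theorem Sng.dvd (hm : 2 ≤ m) (heven : ¬ Odd (Fintype.card F)) {s : Matrix.symplecticGroup (Fin m) F}
    (h : Sng F m s) {r : ℕ} (hr : r.Prime) (hrm : r ∣ 2 * m)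
    {K : Subalgebra F (Matrix (Fin m ⊕ Fin m) (Fin m ⊕ Fin m) F)} (hK : IsFieldSubalgebra r K)
    (hsa : IsSelfAdjointFor (sympForm m F) K) (hs : spToGL m F s ∈ subalgebraNormalizer K) : r ∣ m := by
  by_contra hcon
  have hr2 : r = 2 := by
    rcases (Nat.Prime.dvd_mul hr).1 hrm with h1 | h1
    · exact (Nat.prime_dvd_prime_iff_eq hr Nat.prime_two).1 h1
    · exact absurd h1 hcon
  subst hr2
  have h2 := two_zero_of heven
  have hne : Nonempty (Fin m ⊕ Fin m) := ⟨Sum.inl ⟨0, by omega⟩⟩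
  have hev : Even (Fintype.card F) := Nat.not_odd_iff_even.1 heven
  have hodd : Nat.Coprime (Fintype.card F ^ m + 1) 2 := by
    rw [Nat.coprime_two_right]
    exact (hev.pow_of_ne_zero (by omega)).add_odd odd_one
  have hcomm := comm_field' hK hs hodd (by rw [← map_pow, ← h.ord, pow_orderOf_eq_one, map_one])
  let _ : Field K := (H912.isField_of_fieldSub hK).toField
  have hKfin : Finite K := Module.finite_of_finite F
  have hB := sy_symp (m := m) h2
  have hcardK : Nat.card K = Fintype.card F ^ 2 := by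
    have : Fintype K := Fintype.ofFinite K
    rw [Nat.card_eq_fintype_card, Module.card_eq_pow_finrank (K := F), hK.finrank_eq]
  refine field_contra (F := F) (K := K) hK.finrank_eq fun k => ?_
  have hc : Commute (Matrix.toLin' (k : Matrix (Fin m ⊕ Fin m) (Fin m ⊕ Fin m) F)) (rhoSp m F s) := by
    change Matrix.toLin' _ * Matrix.toLin' _ = Matrix.toLin' _ * Matrix.toLin' _
    rw [Module.End.mul_eq_comp, Module.End.mul_eq_comp, ← Matrix.toLin'_mul, ← Matrix.toLin'_mul]
    exact congrArg _ (hcomm k k.2).symm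
  have h1 : k ^ (Fintype.card F ^ m) = k := by
    apply Subtype.ext
    apply Matrix.toLin'.injective
    rw [Subalgebra.coe_pow, Matrix.toLin'_pow]
    apply LinearMap.ext
    intro w
    have h3 : (((Matrix.toLin' (k : Matrix (Fin m ⊕ Fin m) (Fin m ⊕ Fin m) F)) ^ (Fintype.card F ^ m)) w -
        Matrix.toLin' (k : Matrix (Fin m ⊕ Fin m) (Fin m ⊕ Fin m) F) w : Fin m ⊕ Fin m → F) = 0 := by
      refine hB.nd _ fun v => ?_
      have h4 := adj_pow hB (rp_symp.iso s) h.irr (a := m) (fun w _ => by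
        rw [← map_pow, ← h.ord, pow_orderOf_eq_one, map_one]; rfl) hc (fun w _ => Submodule.mem_top) v
        Submodule.mem_top w Submodule.mem_top
      have h5 : sympForm m F (Matrix.toLin' (k : Matrix (Fin m ⊕ Fin m) (Fin m ⊕ Fin m) F) v) w =
          sympForm m F v (Matrix.toLin' (k : Matrix (Fin m ⊕ Fin m) (Fin m ⊕ Fin m) F) w) := by
        rw [Matrix.toLin'_apply, Matrix.toLin'_apply]
        exact hsa k k.2 v w
      rw [hB.symm, sub_eq_add_neg, hB.add', hB.neg, ← h4, h5]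
      exact add_self hB.two _
    exact sub_eq_zero.1 h3
  have h22 : k ^ (Fintype.card F ^ 2) = k := by
    have : Fintype K := Fintype.ofFinite K
    rw [← hcardK, Nat.card_eq_fintype_card, FiniteField.pow_card]
  exact scalar_of_frob Nat.prime_two hcon h1 h22

/-- a quadratic form which is not zero -/
theorem exists_nonsing {V : Type*} [AddCommGroup V] [Module F V] [Nontrivial V] {B : V → V → F} (hB : Sy B) {Q : V → F}
    (hQ : Qf B Q) : ∃ w, w ≠ 0 ∧ Q w ≠ 0 := by
  by_contra hcon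
  push Not at hcon
  have h1 : ∀ w, Q w = 0 := by
    intro w
    by_cases hw : w = 0
    · rw [hw, hQ.zero]
    · exact hcon w hw
  obtain ⟨v, hv⟩ := exists_ne (0 : V)
  apply hv
  refine hB.nd _ fun w => ?_
  have := hQ.polar v w
  rw [h1, h1, h1] at this
  linear_combination - this

/-- a transvection in the stabiliser of a quadratic form -/
theorem exists_tv_st (hm : 1 ≤ m) (h2 : (2 : F) = 0) {Q : (Fin m ⊕ Fin m → F) → F} (hQ : Qf (sympForm m F) Q) :
    ∃ (w : Fin m ⊕ Fin m → F) (c : F) (t : Matrix.symplecticGroup (Fin m) F), w ≠ 0 ∧ c ≠ 0 ∧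
      rhoSp m F t = ((sy_symp h2).tv w c).toLinearMap ∧ t ∈ St (rhoSp m F) Q := by
  have hne : Nonempty (Fin m ⊕ Fin m) := ⟨Sum.inl ⟨0, by omega⟩⟩
  obtain ⟨w, hw, hQw⟩ := exists_nonsing (sy_symp h2) hQ
  obtain ⟨t, ht⟩ := rp_symp.full ((sy_symp h2).tv w (Q w)⁻¹) ((sy_symp h2).tv_iso w _)
  refine ⟨w, (Q w)⁻¹, t, hw, inv_ne_zero hQw, ht, fun v => ?_⟩
  rw [ht]
  change Q ((sy_symp h2).tv w (Q w)⁻¹ v) = Q v
  rw [hQ.tv (sy_symp h2)]
  have h3 : (Q w)⁻¹ * (Q w)⁻¹ * Q w + (Q w)⁻¹ = 0 := by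
    rw [mul_assoc, inv_mul_cancel₀ hQw, mul_one]
    exact add_self h2 _
  rw [h3, zero_mul, add_zero]

/-- **the criterion for Singer cycles** -/
theorem spr_singer [IsSimpleGroup (PSp m F)] (hna : ∃ x y : PSp m F, x * y ≠ y * x) (hm : 2 ≤ m)
    (h22 : ¬ (m = 2 ∧ Fintype.card F = 2)) (hexc : ¬ (Fintype.card F = 2 ∧ m = 3)) (heven : ¬ Odd (Fintype.card F))
    {r₀ : ℕ} (hr₀ : r₀.Prime) (hrm₀ : r₀ ∣ m) (hun : ∀ r : ℕ, r.Prime → r ∣ m → r = r₀)
    {s : Matrix.symplecticGroup (Fin m) F} (h : Sng F m s)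
    (hres : ∀ K : Subgroup (PSp m F), IsCoatom K → (QuotientGroup.mk s : PSp m F) ∈ K →
      ¬ InSymplecticResidualClass (pre K)) : Spr (PSp m F) := by
  have h2 := two_zero_of heven
  have hB := sy_symp (m := m) h2
  have hR := rp_symp (F := F) (m := m)
  have hev : Even (Fintype.card F) := Nat.not_odd_iff_even.1 heven
  have hne : Nonempty (Fin m ⊕ Fin m) := ⟨Sum.inl ⟨0, by omega⟩⟩
  have hι : Fintype.card (Fin m ⊕ Fin m) = 2 * m := by simp [two_mul]
  let e := spmEquiv (F := F) (m := m) (by omega) hev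
  have hemk : ∀ B, e B = (QuotientGroup.mk B : PSp m F) := fun _ => rfl
  have hodd : Odd (Fintype.card F ^ m + 1) := (hev.pow_of_ne_zero (by omega)).add_odd odd_one
  obtain ⟨Q, hQ, hQs⟩ := exists_avg hB (qf_symp h2) (hR.iso s) hodd (by
    rw [← map_pow, ← h.ord, pow_orderOf_eq_one, map_one])
  have hfx : fx (rhoSp m F s) = ⊥ := by
    have h3 := irr_fx h.irr (by rw [finrank_top, Module.finrank_fintype_fun_eq_card, hι]; omega)
    rwa [top_inf_eq] at h3
  -- transport
  have L : Spr (Matrix.symplecticGroup (Fin m) F) := by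
    have hs : IsSimpleGroup (Matrix.symplecticGroup (Fin m) F) := e.symm.isSimpleGroup_congr.1 inferInstance
    have hfin : Finite (Matrix.symplecticGroup (Fin m) F) := inferInstance
    have hna' : ∃ x y : Matrix.symplecticGroup (Fin m) F, x * y ≠ y * x := by
      obtain ⟨x, y, hxy⟩ := hna
      refine ⟨e.symm x, e.symm y, fun h3 => hxy ?_⟩
      rw [← map_mul, ← map_mul] at h3
      exact e.symm.injective h3
    -- the overgroups
    have hover : ∀ K : Subgroup (Matrix.symplecticGroup (Fin m) F), s ∈ K → IsCoatom K →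
        K ≤ St (rhoSp m F) Q ∨ ∃ K₁ : Subalgebra F (Matrix (Fin m ⊕ Fin m) (Fin m ⊕ Fin m) F),
          IsFieldSubalgebra r₀ K₁ ∧ ∀ B ∈ K, spToGL m F B ∈ subalgebraNormalizer K₁ := by
      intro K hsK hK
      have hK' := coatom_map e hK
      have hmem : ∀ B, spToGL m F B ∈ pre (K.map e.toMonoidHom) ↔ B ∈ K := by
        intro B
        rw [mem_pre, ← hemk]
        constructor
        · rintro ⟨B', hB', h5⟩
          have h6 : B' = B := e.injective h5
          rwa [← h6]
        · intro h4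
          exact ⟨B, h4, rfl⟩
      rcases Cfsg.Agent.S5662.result m (by omega) h22 (pre (K.map e.toMonoidHom)) (pre_le _) (by
        rw [sup_eq_left.2 (scalars_le_pre _)]
        exact pre_ne hK'.1) with ⟨M, hM, hle⟩ | h3
      · rcases geo_singer hm hexc heven h ((hmem s).2 hsK) hM hle with ⟨Q', hQ', h4⟩ | ⟨r, K₁, hr, hrm, hK₁, hsa, hle'⟩
        · left
          have h5 : ∀ v, Q v = Q' v := qf_unique hB hQ hQ' (hR.iso s) hQs (h4 s ((hmem s).2 hsK)) hfx
          intro B hB' v
          rw [h5, h5]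
          exact h4 B ((hmem B).2 hB') v
        · right
          have h5 := h.dvd hm heven hr hrm hK₁ hsa (hle' ((hmem s).2 hsK))
          obtain rfl := hun r hr h5
          exact ⟨K₁, hK₁, fun B hB' => hle' ((hmem B).2 hB')⟩
      · exact absurd h3 (hres _ hK' ⟨s, hsK, rfl⟩)
    have hne1 : St (rhoSp m F) Q ≠ ⊤ := by
      intro h3
      refine not_sgs_le (W := ⊤) hB hR ?_ hQ (by rw [h3]; exact le_top)
      rw [finrank_top, Module.finrank_fintype_fun_eq_card, hι]
      omega
    by_cases hcase : ∃ K₀ : Subalgebra F (Matrix (Fin m ⊕ Fin m) (Fin m ⊕ Fin m) F), IsFieldSubalgebra r₀ K₀ ∧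
        spToGL m F s ∈ subalgebraNormalizer K₀
    · obtain ⟨K₀, hK₀, hsK₀⟩ := hcase
      refine spr_of_pair hna' (s := s) (M₁ := St (rhoSp m F) Q)
        (M₂ := (subalgebraNormalizer K₀).comap (spToGL m F)) hne1 ?_ (fun v => hQs v) hsK₀ ?_ ?_
      · intro h3
        obtain ⟨w, c, t, hw, hc, ht, -⟩ := exists_tv_st (by omega) h2 hQ
        exact tv_not_mem h2 hm hw hc ht hr₀.two_le hK₀ (by
          have : t ∈ (subalgebraNormalizer K₀).comap (spToGL m F) := by rw [h3]; trivial
          exact this)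
      · intro y h3
        rw [conj_st] at h3
        obtain ⟨w, c, t, hw, hc, ht, htS⟩ := exists_tv_st (by omega) h2 (qf_conj hR hQ y⁻¹)
        rw [h3] at htS
        exact tv_not_mem h2 hm hw hc ht hr₀.two_le hK₀ htS
      · intro K hsK hK
        rcases hover K hsK hK with h3 | ⟨K₁, hK₁, h3⟩
        · exact Or.inl h3
        · right
          have h4 := h.unique hm hexc hr₀ (hrm₀.trans (Dvd.intro_left 2 rfl)) hK₀ hK₁ hsK₀ (h3 s hsK)
          subst h4
          exact h3
    · refine spr_of_single hna' (s := s) (M := St (rhoSp m F) Q) hne1 fun K hsK hK => ?_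
      rcases hover K hsK hK with h3 | ⟨K₁, hK₁, h3⟩
      · exact h3
      · exact absurd ⟨K₁, hK₁, h3 s hsK⟩ hcase
  exact L.congr e

end Cfsg.Agent.H427.Sg
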