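import Cfsg.Agent.H427.Sg.OmegaEven
import Cfsg.Agent.H427.Sg.Sing
import Cfsg.Agent.H906.Cov.Num
import Cfsg.Agent.S0270

/-!
# `PSp₂ₘ(q)`, `q` even, `m ≥ 7` (helper427, S3938)

* `no_ext`   : a residual subgroup normalises no field;
* `hres_big` : a subgroup which contains an element of large primitive order is not residual;
* `spr_big`  : the row.
-/

set_option autoImplicit false
set_option linter.unusedSectionVars false

namespace Cfsg.Agent.H427.Sg

open Module Cfsg Cfsg.Geo Cfsg.Agent.H951 Cfsg.Agent.H427.Fc Cfsg.Agent.H424.Spr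
open Cfsg.Agent.ClassicalGeometry.SympBasic Cfsg.Agent.H876 Cfsg.Agent.H931 Cfsg.Agent.H262.El
open Cfsg.Agent.H278.Cov (Num Red Ext)
open Cfsg.Agent.H659.CovCore (S5948Stmt core)
open Cfsg.Agent.H659.CovForms
open scoped Matrix MatrixGroups commutatorElement

universe u

section ext

variable {F : Type u} [Field F] [Finite F] {ι : Type} [Fintype ι] [DecidableEq ι] [Nonempty ι]

/-- commutators centralise a normalised field -/
theorem comm_trivial {s : ℕ} {K : Subalgebra F (Matrix ι ι F)} (hK : IsFieldSubalgebra s K) {g h : GL ι F}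
    (hg : g ∈ subalgebraNormalizer K) (hh : h ∈ subalgebraNormalizer K) {x : Matrix ι ι F} (hx : x ∈ K) :
    (⁅g, h⁆ : GL ι F).1 * x = x * (⁅g, h⁆ : GL ι F).1 := by
  have hN : H912.NormAlg (subalgebraNormalizer K) K := fun _ hh a ha => (hh a).mp ha
  let _ : Field K := (H912.isField_of_fieldSub hK).toField
  have hfd : Module.Finite F K := inferInstance
  have hKfin : Finite K := Module.finite_of_finite F
  have hgal : IsGalois F K := inferInstance
  have hcyc : IsCyclic (K ≃ₐ[F] K) := inferInstance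
  have hc : ∀ σ τ : K ≃ₐ[F] K, σ * τ = τ * σ := (IsCyclic.commGroup (α := K ≃ₐ[F] K)).mul_comm
  let σ : K ≃ₐ[F] K := H912.conjSub hN ⟨g, hg⟩
  let τ : K ≃ₐ[F] K := H912.conjSub hN ⟨h, hh⟩
  have key : ∀ y ∈ K, (g * h).1 * y * ((g * h)⁻¹ : GL ι F).1 = (h * g).1 * y * ((h * g)⁻¹ : GL ι F).1 := by
    intro y hy
    have h1 : (((σ * τ) ⟨y, hy⟩ : K) : Matrix ι ι F) = (g * h).1 * y * ((g * h)⁻¹ : GL ι F).1 := by
      rw [AlgEquiv.mul_apply, H912.conjSub_coe, H912.conjSub_coe, mul_inv_rev, Units.val_mul, Units.val_mul]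
      simp only [Matrix.mul_assoc]
    have h2 : (((τ * σ) ⟨y, hy⟩ : K) : Matrix ι ι F) = (h * g).1 * y * ((h * g)⁻¹ : GL ι F).1 := by
      rw [AlgEquiv.mul_apply, H912.conjSub_coe, H912.conjSub_coe, mul_inv_rev, Units.val_mul, Units.val_mul]
      simp only [Matrix.mul_assoc]
    rw [← h1, ← h2, hc σ τ]
  have hhg : (h * g)⁻¹ ∈ subalgebraNormalizer K := Subgroup.inv_mem _ (Subgroup.mul_mem _ hh hg)
  have h3 := (hhg x).1 hx
  rw [inv_inv] at h3
  have h4 := key _ h3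
  have h5 : (h * g).1 * (((h * g)⁻¹ : GL ι F).1 * x * (h * g).1) * ((h * g)⁻¹ : GL ι F).1 = x := by
    rw [← Matrix.mul_assoc, ← Matrix.mul_assoc, ← Units.val_mul, mul_inv_cancel, Units.val_one, Matrix.one_mul,
      Matrix.mul_assoc, ← Units.val_mul, mul_inv_cancel, Units.val_one, Matrix.mul_one]
  rw [h5] at h4
  have h6 : (⁅g, h⁆ : GL ι F) = (g * h) * (h * g)⁻¹ := by
    rw [commutatorElement_def]
    group
  have h7 : (⁅g, h⁆ : GL ι F)⁻¹ = (h * g) * (g * h)⁻¹ := by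
    rw [h6, mul_inv_rev, inv_inv]
  have h8 : (⁅g, h⁆ : GL ι F).1 * x * ((⁅g, h⁆ : GL ι F)⁻¹).1 = x := by
    rw [h7, h6]
    conv_rhs => rw [← h4]
    rw [Units.val_mul (g * h), Units.val_mul (h * g)]
    simp only [Matrix.mul_assoc]
  calc (⁅g, h⁆ : GL ι F).1 * x = (⁅g, h⁆ : GL ι F).1 * x * ((⁅g, h⁆ : GL ι F)⁻¹).1 * (⁅g, h⁆ : GL ι F).1 := by
        rw [Matrix.mul_assoc (_ * x), ← Units.val_mul, inv_mul_cancel, Units.val_one, Matrix.mul_one]
    _ = x * (⁅g, h⁆ : GL ι F).1 := by rw [h8]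

/-- **a residual subgroup normalises no field of prime degree** -/
theorem no_ext {H P : Subgroup (GL ι F)} (hc : IsResidualCore H P) {r : ℕ} (hr : r.Prime)
    {K : Subalgebra F (Matrix ι ι F)} (hK : IsFieldSubalgebra r K) (hH : H ≤ subalgebraNormalizer K) : False := by
  let C : Subgroup (GL ι F) :=
    { carrier := {g | ∀ x ∈ K, g.1 * x = x * g.1}
      mul_mem' := fun {a b} ha hb x hx => by
        rw [Units.val_mul, Matrix.mul_assoc, hb x hx, ← Matrix.mul_assoc, ha x hx, Matrix.mul_assoc]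
      one_mem' := fun x hx => by rw [Units.val_one, Matrix.one_mul, Matrix.mul_one]
      inv_mem' := fun {a} ha x hx => by
        have h1 : a⁻¹.1 * (x * a.1) * a⁻¹.1 = a⁻¹.1 * (a.1 * x) * a⁻¹.1 := by rw [ha x hx]
        rw [← Matrix.mul_assoc a⁻¹.1 a.1 x, ← Units.val_mul, inv_mul_cancel, Units.val_one, Matrix.one_mul,
          Matrix.mul_assoc, Matrix.mul_assoc, ← Units.val_mul, mul_inv_cancel, Units.val_one, Matrix.mul_one] at h1
        exact h1 }
  have h1 : P ≤ C := by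
    conv_lhs => rw [← hc.perfect]
    rw [Subgroup.commutator_le]
    intro g hg h hh x hx
    exact comm_trivial hK (hH (hc.le hg)) (hH (hc.le hh)) hx
  have h2 : K = ⊥ := by
    rw [eq_bot_iff]
    intro x hx
    obtain ⟨c, rfl⟩ := hc.absIrred.2 x (by
      rintro _ ⟨g, hg, rfl⟩
      exact ((h1 hg) x hx).symm)
    rw [← Algebra.algebraMap_eq_smul_one]
    exact Subalgebra.algebraMap_mem _ c
  have h3 := hK.finrank_eq
  rw [h2, Subalgebra.finrank_bot] at h3
  rw [← h3] at hr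
  exact Nat.not_prime_one hr

/-- a residual subgroup is irreducible -/
theorem not_red {H P : Subgroup (GL ι F)} (hc : IsResidualCore H P) : ¬ Red H := by
  rintro ⟨W, h1, h2, h3⟩
  rcases hc.absIrred.1 W (by
    rintro _ ⟨g, hg, rfl⟩ _ ⟨w, hw, rfl⟩
    rw [Matrix.toLin'_apply]
    exact (Cfsg.Agent.H884.OmegaGL.mem_subspaceStabilizer.1 (h3 (hc.le hg))) w hw) with h4 | h4
  · exact h1 h4
  · exact h2 h4

end ext

variable {F : Type u} [Field F] [Fintype F] {m : ℕ}

/-- **no residual overgroup of an element of large primitive order** -/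
theorem hres_big (hP : S5948Stmt.{u}) [IsSimpleGroup (PSp m F)] (heven : ¬ Odd (Fintype.card F)) (hm : 4 ≤ m)
    {K : Subgroup (PSp m F)} (hK : K ≠ ⊤) {g : Matrix.symplecticGroup (Fin m) F}
    (hgK : (QuotientGroup.mk g : PSp m F) ∈ K) {k : ℕ} (hnum : Num (Fintype.card F) (2 * m) k (orderOf g)) :
    ¬ InSymplecticResidualClass (pre K) := by
  rintro ⟨P, hc, hPQ, -⟩
  have hι : Fintype.card (Fin m ⊕ Fin m) = 2 * m := by simp [two_mul]
  have hne : Nonempty (Fin m ⊕ Fin m) := ⟨Sum.inl ⟨0, by omega⟩⟩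
  have h2 := two_zero_of heven
  have hB := sy_symp (m := m) h2
  have hf : IsSymplecticForm (sympForm m F) := H924.isSymplecticForm_sympForm
  have hfix : FixesForm (matrixSet (pre K)) (sympForm m F) := by
    rintro _ ⟨g, hg, rfl⟩ v w
    exact pre_le K hg v w
  have hl : LL (sympForm m F) := ⟨hf.bilinear.add_left, hf.bilinear.smul_left⟩
  have hr := hf.bilinear.add_right
  obtain ⟨i₀⟩ := hne
  have hne : Nonempty (Fin m ⊕ Fin m) := ⟨i₀⟩
  have hz : (Pi.single i₀ 1 : (Fin m ⊕ Fin m) → F) ≠ 0 := by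
    intro h
    have := congrFun h i₀
    rw [Pi.single_eq_same, Pi.zero_apply] at this
    exact one_ne_zero this
  have hgm : spToGL m F g ∈ pre K := mem_pre.2 hgK
  rcases core hP hgm (k := k) (by rw [hι, orderOf_injective _ spToGL_injective g]; exact hnum) (not_red hc) with
    ⟨r, E, hr', -, hE, hle⟩ | h | ⟨f₂, hf₂, h⟩ | ⟨τ, B, hB', h⟩ | ⟨Q, hQ, h⟩
  · exact no_ext hc hr' hE hle
  · obtain ⟨w, hw⟩ := (hf.nondegenerate _ hz).1
    exact absurd (sl_alternating h (by omega) hf.bilinear hf.alternating hfix _ _) hw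
  · obtain ⟨κ, hκ⟩ := symp_prop hf hf₂ hfix h
    have hκ0 : κ ≠ 0 := by
      rintro rfl
      obtain ⟨w, hw⟩ := (hf.nondegenerate _ hz).1
      exact hw (by rw [hκ, zero_mul])
    apply pre_ne hK
    apply le_antisymm (pre_le K)
    intro x hx
    refine h x ?_
    rintro _ rfl u v
    have h1 : sympForm m F (x.1 *ᵥ u) (x.1 *ᵥ v) = sympForm m F u v := hx u v
    rw [hκ, hκ] at h1
    exact mul_left_cancel₀ hκ0 h1
  · have hBm := hm_of_unitary hB'
    obtain ⟨a, ha, -⟩ := hBm.exists_orth (m := 0) (by omega) ![] (fun i => i.elim0) (fun i => i.elim0)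
    have ha0 : a ≠ 0 := by
      rintro rfl
      exact ha (hBm.ll.zero 0)
    obtain ⟨w, hw⟩ := (hf.nondegenerate a ha0).2
    obtain ⟨c, hc'⟩ := hBm.split ha w
    apply hw
    have e : w = (w - c • a) + c • a := by abel
    rw [e, hr, su_perp hB' (by omega) h hl hr hfix ha hc', hf.bilinear.smul_right, hf.alternating, mul_zero, add_zero]
  · obtain ⟨Q₁, hQ₁, -, hfixQ⟩ := omega_fixes heven hm hQ hK h
    apply hPQ
    refine ⟨Q₁, hQ₁, ?_⟩
    rintro _ ⟨g, hg, rfl⟩ v
    exact hfixQ g (hc.le hg) v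

/-- a divisor of `q ^ (2 a) - 1` prime to `q ^ a - 1` -/
theorem dvd_plus {q a N : ℕ} (ha : 1 ≤ a) (h1 : N ∣ q ^ (2 * a) - 1) (h2 : ∀ i : ℕ, 1 ≤ i → i < 2 * a → Nat.Coprime N (q ^ i - 1)) :
    N ∣ q ^ a + 1 := by
  have h3 : q ^ (2 * a) - 1 = (q ^ a + 1) * (q ^ a - 1) := by
    have := Nat.sq_sub_sq (q ^ a) 1
    rw [one_pow, ← pow_mul, mul_comm a 2] at this
    exact this
  rw [h3] at h1
  exact (h2 a ha (by omega)).dvd_of_dvd_mul_right h1

/-- an element of `⟨s⟩` of large primitive order -/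
theorem exists_power {a N : ℕ} (ha : 1 ≤ a) {s : Matrix.symplecticGroup (Fin m) F} (hs : Fintype.card F ^ a + 1 ∣ orderOf s)
    {n : ℕ} (hN : Num (Fintype.card F) n (2 * a) N) {K : Subgroup (PSp m F)} (hsK : (QuotientGroup.mk s : PSp m F) ∈ K) :
    ∃ g : Matrix.symplecticGroup (Fin m) F, (QuotientGroup.mk g : PSp m F) ∈ K ∧ orderOf g = N := by
  obtain ⟨c, hc⟩ := (dvd_plus ha hN.dvd hN.prim).trans hs
  have h0 : 0 < orderOf s := orderOf_pos s
  have hc0 : c ≠ 0 := by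
    rintro rfl
    omega
  refine ⟨s ^ c, ?_, ?_⟩
  · have := K.pow_mem hsK c
    exact this
  · rw [orderOf_pow_of_dvd hc0 ⟨N, by rw [hc, mul_comm]⟩, hc, Nat.mul_div_cancel _ (by omega)]

theorem hres_el (hP : S5948Stmt.{u}) [IsSimpleGroup (PSp m F)] (heven : ¬ Odd (Fintype.card F)) {a : ℕ}
    (hm : 5 ≤ m) (ha : a ≤ m) (ham : m < 2 * a) (h2 : Fintype.card F = 2 → a ≠ 3 ∧ a ≠ 4 ∧ a ≠ 5 ∧ a ≠ 6 ∧ a ≠ 9 ∧ a ≠ 10)
    (h4 : a = 3 → Fintype.card F ≠ 4) {s : Matrix.symplecticGroup (Fin m) F} (hs : Fintype.card F ^ a + 1 ∣ orderOf s)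
    {K : Subgroup (PSp m F)} (hK : IsCoatom K) (hsK : (QuotientGroup.mk s : PSp m F) ∈ K) :
    ¬ InSymplecticResidualClass (pre K) := by
  have hodd : Fintype.card F ≠ 3 ∧ Fintype.card F ≠ 5 := by
    constructor <;> intro h3 <;> apply heven <;> rw [h3] <;> decide
  obtain ⟨N, hN⟩ := H906.Cov.exists_num (q := Fintype.card F) (n := 2 * m) (k := 2 * a) Fintype.isPrimePow_card_of_field
    (by omega) (by omega) (by omega) (fun h => by have := h2 h; omega) (fun h => ⟨hodd.1, h4 (by omega), hodd.2⟩)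
  obtain ⟨g, hg, hgo⟩ := exists_power (by omega) hs hN hsK
  exact hres_big hP heven (by omega) hK.1 hg (k := 2 * a) (by rw [hgo]; exact hN)

/-- **`PSp₂ₘ(q)`, `q` even, `m ≥ 7`** -/
theorem spr_big (hP : S5948Stmt.{u}) [IsSimpleGroup (PSp m F)] (hna : ∃ x y : PSp m F, x * y ≠ y * x)
    (heven : ¬ Odd (Fintype.card F)) (hm : 7 ≤ m) : Spr (PSp m F) := by
  have key : ∀ a b : ℕ, a + b = m → 1 ≤ b → b < a → Nat.Coprime a b → 4 ≤ a →
      (Fintype.card F = 2 → a ≠ 3 ∧ a ≠ 4 ∧ a ≠ 5 ∧ a ≠ 6 ∧ a ≠ 9 ∧ a ≠ 10) → Spr (PSp m F) := by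
    intro a b hab hb hba hcop ha h2
    obtain ⟨s, W, U, h⟩ := exists_two (F := F) (m := m) (a := a) (b := b) (by omega) hb hab (by omega)
    exact spr_blocks hna hab hb hba hcop (by omega) heven h
      (fun K hK hsK => hres_el hP heven (by omega) (by omega) (by omega) h2 (by omega) h.oa hK hsK)
  by_cases hq : Fintype.card F = 2 ∧ (m = 7 ∨ m = 10 ∨ m = 11)
  · obtain ⟨hq, h7 | h10 | h11⟩ := hq
    · subst h7
      obtain ⟨s, h⟩ := Sng.exists (F := F) (m := 7) (by norm_num)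
      refine spr_singer hna (by norm_num) (by omega) (by omega) heven (r₀ := 7) (by norm_num) dvd_rfl
        (fun r hr hrd => (Nat.prime_dvd_prime_iff_eq hr (by norm_num)).1 hrd) h (fun K hK hsK => ?_)
      exact hres_el hP heven (a := 7) (by norm_num) le_rfl (by norm_num) (by omega) (by omega)
        (by rw [h.ord]) hK hsK
    · subst h10
      exact key 7 3 (by norm_num) (by norm_num) (by norm_num) (by norm_num) (by norm_num) (by omega)
    · subst h11
      exact key 8 3 (by norm_num) (by norm_num) (by norm_num) (by norm_num) (by norm_num) (by omega)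
  · exact key (m - 1) 1 (by omega) le_rfl (by omega) (Nat.coprime_one_right _) (by omega) (by
      intro h3
      have h4 : ¬ (m = 7 ∨ m = 10 ∨ m = 11) := fun h5 => hq ⟨h3, h5⟩
      omega)

end Cfsg.Agent.H427.Sg
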