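import Cfsg.Agent.H427.Sg.Res
import Cfsg.Agent.S5791
import Cfsg.Agent.S2126
import Cfsg.Agent.H381.SzSpec

/-!
# `PSp₄(q)`, `q ≥ 4` even: no residual overgroup of a Singer cycle (helper427, S3938)
-/

set_option autoImplicit false

namespace Cfsg.Agent.H427.Sg

open Module Cfsg Cfsg.Geo Cfsg.Agent.H951 Cfsg.Agent.H427.Fc Cfsg.Agent.H424.Spr
open Cfsg.Agent.ClassicalGeometry.SympBasic Cfsg.Agent.H876 Cfsg.Agent.H931 Cfsg.Agent.H262.El
open scoped Matrix MatrixGroups Pointwise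

universe u

variable {F : Type u} [Field F] {m : ℕ}

/-- scalars in the symplectic group, characteristic two -/
theorem scalar_one (h2 : (2 : F) = 0) (hm : 1 ≤ m) {z : GL (Fin m ⊕ Fin m) F} (hz : z ∈ spGL m F)
    (hs : z ∈ scalars (Fin m ⊕ Fin m) F) : z = 1 := by
  rcases H914.S6.scalar_cases hm hz hs with h | h
  · exact h
  · rw [h]
    apply Units.ext
    rw [Units.val_neg, Units.val_one]
    ext i j
    rw [Matrix.neg_apply]
    linear_combination -((1 : Matrix (Fin m ⊕ Fin m) (Fin m ⊕ Fin m) F) i j) * h2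

variable [Fintype F]

/-- a power of an element of a residual subgroup lies in the core -/
theorem pow_mem_core (h2 : (2 : F) = 0) (hm : 1 ≤ m) {H P : Subgroup (GL (Fin m ⊕ Fin m) F)}
    (hle : H ≤ spGL m F) (hc : IsResidualCore H P) {f : ℕ} 
    (hA : Nat.card (MulAut (P ⧸ (scalars (Fin m ⊕ Fin m) F).subgroupOf P)) ∣
      Nat.card (P ⧸ (scalars (Fin m ⊕ Fin m) F).subgroupOf P) * f) {g : GL (Fin m ⊕ Fin m) F} (hg : g ∈ H) :
    g ^ (2 * f) ∈ P := by
  have hbot : (scalars (Fin m ⊕ Fin m) F).subgroupOf P = ⊥ := by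
    rw [eq_bot_iff]
    intro z hz
    exact Subtype.ext (scalar_one h2 hm (hle (hc.le z.2)) hz)
  have hcard : Nat.card (P ⧸ (scalars (Fin m ⊕ Fin m) F).subgroupOf P) = Nat.card P := by
    have := Subgroup.card_eq_card_quotient_mul_card_subgroup ((scalars (Fin m ⊕ Fin m) F).subgroupOf P)
    rw [hbot, Subgroup.card_bot, mul_one] at this
    rw [hbot, this]
  have h3 := (H109.Cov.card_dvd hm hle hc).trans (Nat.mul_dvd_mul_left 2 hA)
  rw [hcard] at h3
  have hPn : (P.subgroupOf H).Normal := ⟨fun x hx g => hc.normal g g.2 x hx⟩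
  have h4 := (P.subgroupOf H).card_mul_index
  rw [Nat.card_congr (Subgroup.subgroupOfEquivOfLe hc.le).toEquiv] at h4
  rw [← h4] at h3
  have h5 : (P.subgroupOf H).index ∣ 2 * f := by
    refine Nat.dvd_of_mul_dvd_mul_left (Nat.card_pos (α := P)) ?_
    rwa [show Nat.card P * (2 * f) = 2 * (Nat.card P * f) by ring]
  obtain ⟨c, hc'⟩ := h5
  have h6 := (P.subgroupOf H).pow_index_mem ⟨g, hg⟩
  rw [Subgroup.mem_subgroupOf] at h6
  rw [hc', pow_mul]
  exact P.pow_mem h6 c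

theorem hres_two (heven : ¬ Odd (Fintype.card F)) (h4 : 4 ≤ Fintype.card F) {s : Matrix.symplecticGroup (Fin 2) F}
    (h : orderOf s = Fintype.card F ^ 2 + 1) (K : Subgroup (PSp 2 F)) (hK : IsCoatom K)
    (hsK : (QuotientGroup.mk s : PSp 2 F) ∈ K) : ¬ InSymplecticResidualClass (pre K) := by
  intro hS
  have h2 := two_zero_of heven
  obtain ⟨P, j, hc, hj, hF, ⟨e⟩⟩ := S5791.result heven h4 (pre K) (isMaximalIn_pre hK) hS
  have hg : spToGL 2 F s ∈ pre K := mem_pre.2 hsK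
  have hgo : orderOf (spToGL 2 F s) = Fintype.card F ^ 2 + 1 := by rw [orderOf_injective _ spToGL_injective, h]
  have hA : Nat.card (MulAut (P ⧸ (scalars (Fin 2 ⊕ Fin 2) F).subgroupOf P)) ∣
      Nat.card (P ⧸ (scalars (Fin 2 ⊕ Fin 2) F).subgroupOf P) * (2 * j + 1) := by
    rw [Nat.card_congr (MulAut.congr e).toEquiv, Nat.card_congr e.toEquiv, ← S2126.result hj hF]
    exact card_aut_dvd _
  have hmem := pow_mem_core h2 (by norm_num) (pre_le K) hc hA hg
  have hbot : (scalars (Fin 2 ⊕ Fin 2) F).subgroupOf P = ⊥ := by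
    rw [eq_bot_iff]
    intro z hz
    exact Subtype.ext (scalar_one h2 (by norm_num) (pre_le K (hc.le z.2)) hz)
  let x : P := ⟨_, hmem⟩
  have hx : orderOf (e (QuotientGroup.mk x)) = orderOf x := by
    rw [MulEquiv.orderOf_eq]
    refine orderOf_injective (QuotientGroup.mk' ((scalars (Fin 2 ⊕ Fin 2) F).subgroupOf P)) ?_ x
    rw [← MonoidHom.ker_eq_bot_iff, QuotientGroup.ker_mk', hbot]
  have hx2 : orderOf x = orderOf (spToGL 2 F s ^ (2 * (2 * j + 1))) := Subgroup.orderOf_mk _ hmem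
  set o := orderOf x with ho
  obtain ⟨r, hr⟩ : ∃ r, r = 2 ^ (j + 1) := ⟨_, rfl⟩
  obtain ⟨q, hq⟩ : ∃ q, q = 2 ^ (2 * j + 1) := ⟨_, rfl⟩
  have hrr : r * r = 2 * q := by
    rw [hr, hq, ← pow_add, ← pow_succ']
    congr 1
    ring
  have hjr : 2 * j + 2 ≤ r := by
    have h5 : j + 1 ≤ 2 ^ j := Nat.lt_two_pow_self
    rw [hr, pow_succ]
    omega
  have hqr : 2 * r ≤ q := by
    rw [hr, hq, ← pow_succ']
    exact Nat.pow_le_pow_right (by norm_num) (by omega)
  have ho2 : o ≤ q + r + 1 := by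
    rcases H381.SzSpec.spec hj hF (e (QuotientGroup.mk x)) with h5 | ⟨n, hn, h5⟩
    · rw [hx] at h5
      have := Nat.le_of_dvd (by norm_num) h5
      omega
    · rw [hx] at h5
      rw [H98.SzPartition.mem_torusOrders_iff, ← hr, ← hq] at hn
      have h6 := Nat.le_of_dvd (by omega) h5
      omega
  have h7 : q ^ 2 + 1 ∣ (2 * (2 * j + 1)) * o := by
    rw [hq, ← hF, ← hgo]
    apply orderOf_dvd_of_pow_eq_one
    rw [pow_mul, hx2, pow_orderOf_eq_one]
  have hodd : Nat.Coprime (q ^ 2 + 1) 2 := by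
    rw [Nat.coprime_two_right]
    have : Even (q ^ 2) := by
      rw [hq, ← pow_mul]
      exact (Nat.even_pow.2 ⟨even_two, by omega⟩)
    exact this.add_one
  have h8 : q ^ 2 + 1 ∣ (2 * j + 1) * o := by
    rw [mul_assoc] at h7
    exact hodd.dvd_of_dvd_mul_left h7
  have ho0 : 0 < o := orderOf_pos x
  have h9 := Nat.le_of_dvd (by positivity) h8
  have h10 : (2 * j + 1) * o ≤ (2 * j + 1) * (q + r + 1) := Nat.mul_le_mul_left _ ho2
  have h11 : q ^ 2 + 1 = (q - r + 1) * (q + r + 1) := by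
    obtain ⟨d, hd⟩ : ∃ d, q = r + d := ⟨q - r, by omega⟩
    rw [hd] at hrr ⊢
    rw [Nat.add_sub_cancel_left]
    nlinarith
  have h12 : (2 * j + 1) * (q + r + 1) < (q - r + 1) * (q + r + 1) :=
    Nat.mul_lt_mul_of_pos_right (by omega) (by omega)
  omega

/-- **`PSp₄(q)`, `q ≥ 4` even** -/
theorem spr_two [IsSimpleGroup (PSp 2 F)] (hna : ∃ x y : PSp 2 F, x * y ≠ y * x) (heven : ¬ Odd (Fintype.card F))
    (h4 : 4 ≤ Fintype.card F) : Spr (PSp 2 F) := by
  obtain ⟨s, h⟩ := Sng.exists (F := F) (m := 2) (by norm_num)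
  exact spr_singer hna le_rfl (by omega) (by omega) heven (r₀ := 2) Nat.prime_two dvd_rfl
    (fun r hr hrd => (Nat.prime_dvd_prime_iff_eq hr Nat.prime_two).1 hrd) h
    (fun K hK hsK => hres_two heven h4 (by rw [h.ord]) K hK hsK)

end Cfsg.Agent.H427.Sg
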