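import Cfsg.Agent.H427.Sg.ResSmall
import Cfsg.Agent.H427.Sg.ResSz
import Cfsg.Agent.H427.Sg.Big
import Cfsg.Agent.H458.RowPSp

/-!
# S3938 (3/2-generation): `PSp₂ₘ(q)`, `q` even, except `PSp₈(2)` and `PSp₁₂(2)` (helper427)
-/

set_option autoImplicit false

namespace Cfsg.Agent.H427.Sg

open Cfsg Cfsg.Agent.H424.Spr

theorem exists_ne_comm {F : Type} [Field F] [Fintype F] {m : ℕ} (hm : 2 ≤ m) (h22 : m = 2 → 3 ≤ Fintype.card F) :
    ∃ x y : PSp m F, x * y ≠ y * x := by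
  by_contra hcon
  push Not at hcon
  exact Cfsg.Agent.H458.RowPSp.not_comm (F := F) (m := m) hm h22 ⟨⟨hcon⟩⟩

/-- **`PSp₂ₘ(q)`, `q` even, `(m, q) ≠ (4, 2), (6, 2)`** -/
theorem spr_psp_even (hP : H659.CovCore.S5948Stmt.{0}) {F : Type} [Field F] [Fintype F] {m : ℕ} (hm : 2 ≤ m)
    (h22 : m = 2 → 3 ≤ Fintype.card F) (heven : ¬ Odd (Fintype.card F))
    (h42 : ¬ (m = 4 ∧ Fintype.card F = 2)) (h62 : ¬ (m = 6 ∧ Fintype.card F = 2)) : Spr (PSp m F) := by
  have hs : IsSimpleGroup (PSp m F) := Cfsg.Agent.S0270.result m hm h22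
  have hna := exists_ne_comm hm h22
  have hq : 2 ≤ Fintype.card F := Fintype.one_lt_card
  have h3 : Fintype.card F ≠ 3 := by
    intro h
    rw [h] at heven
    exact heven (by decide)
  have h4 : Fintype.card F = 2 ∨ 4 ≤ Fintype.card F := by omega
  by_cases h7 : 7 ≤ m
  · exact spr_big hP hna heven h7
  have hcases : m = 2 ∨ m = 3 ∨ m = 4 ∨ m = 5 ∨ m = 6 := by omega
  rcases hcases with rfl | rfl | rfl | rfl | rfl
  · exact spr_two hna heven (by have := h22 rfl; omega)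
  · exact spr_three hna heven
  · exact spr_four hna heven (by omega)
  · exact spr_five hna heven
  · exact spr_six hna heven (by omega)

/-- **the row** -/
theorem row_psp_even (hP : H659.CovCore.S5948Stmt.{0}) {L : Type*} [Group L] {F : Type} [Field F] [Fintype F] {m : ℕ}
    (hm : 2 ≤ m) (h22 : m = 2 → 3 ≤ Fintype.card F) (heven : ¬ Odd (Fintype.card F))
    (h42 : ¬ (m = 4 ∧ Fintype.card F = 2)) (h62 : ¬ (m = 6 ∧ Fintype.card F = 2)) (e : L ≃* PSp m F) : Spr L :=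
  (spr_psp_even hP hm h22 heven h42 h62).congr e.symm

end Cfsg.Agent.H427.Sg
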