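import Cfsg.Agent.H427.Fc.SpA

/-!
# Operators with two irreducible summands; commuting operators; the adjoint (helper427, S3938)

* `Two.cases`      : the invariant subspaces of an operator with two irreducible summands of different dimension;
* `exists_poly`    : an operator commuting with `x` is a polynomial in `x` on an irreducible summand;
* `adj_pow`        : if `x ^ (q ^ a + 1) = 1` on the summand, then the adjoint of `e` is `e ^ (q ^ a)`;
* `scalar_of_frob` : `e ^ (q ^ a) = e`, `e ^ (q ^ r) = e`, `r` prime, `r ∤ a`: `e ^ q = e`.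
-/

set_option autoImplicit false
set_option linter.unusedSectionVars false

namespace Cfsg.Agent.H427.Sg

open Module Polynomial Cfsg.Agent.H951 Cfsg.Agent.H427.Fc

variable {F : Type*} [Field F] {V : Type*} [AddCommGroup V] [Module F V] {x : Module.End F V}
  {W U : Submodule F V}

/-- two irreducible summands of different dimension -/
structure Two (x : Module.End F V) (W U : Submodule F V) : Prop where
  iW : Irr x W
  iU : Irr x U
  compl : IsCompl W U
  ne : finrank F W ≠ finrank F U

theorem Two.symm (h : Two x W U) : Two x U W := ⟨h.iU, h.iW, h.compl.symm, h.ne.symm⟩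

theorem Two.eq_top [FiniteDimensional F V] (h : Two x W U) {X : Submodule F V} (hX : Inv x X) (h0 : X ≠ ⊥)
    (hU : X ⊓ U = ⊥) : finrank F X = finrank F W := by
  have h1 : (X ⊔ U) ⊓ W = ⊥ ∨ (X ⊔ U) ⊓ W = W :=
    h.iW.2.2 _ inf_le_right ((hX.sup h.iU.2.1).inf h.iW.2.1)
  have h2 : U ⊔ W ⊓ (X ⊔ U) = X ⊔ U := by
    have h3 : (U ⊔ W) ⊓ (X ⊔ U) = U ⊔ W ⊓ (X ⊔ U) := sup_inf_assoc_of_le W (le_sup_right : U ≤ X ⊔ U)
    rw [← h3, sup_comm U W, h.compl.sup_eq_top, top_inf_eq]
  have hf := finrank_sup_of_disj hU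
  rcases h1 with h1 | h1
  · exfalso
    rw [inf_comm, h1, sup_bot_eq] at h2
    apply h0
    rw [← hU]
    refine (inf_eq_left.2 ?_).symm
    rw [h2]
    exact le_sup_left
  · rw [inf_comm, h1, sup_comm, h.compl.sup_eq_top] at h2
    have h3 := Submodule.finrank_add_eq_of_isCompl h.compl
    rw [← h2, finrank_top] at hf
    omega

/-- **the invariant subspaces** -/
theorem Two.cases [FiniteDimensional F V] (h : Two x W U) {X : Submodule F V} (hX : Inv x X) :
    X = ⊥ ∨ X = W ∨ X = U ∨ X = ⊤ := by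
  by_cases h0 : X = ⊥
  · exact Or.inl h0
  right
  have h1 : X ⊓ W = ⊥ ∨ X ⊓ W = W := h.iW.2.2 _ inf_le_right (hX.inf h.iW.2.1)
  have h2 : X ⊓ U = ⊥ ∨ X ⊓ U = U := h.iU.2.2 _ inf_le_right (hX.inf h.iU.2.1)
  rcases h1 with h1 | h1
  · rcases h2 with h2 | h2
    · exfalso
      have h3 := h.eq_top hX h0 h2
      have h4 := h.symm.eq_top hX h0 h1
      exact h.ne (h3.symm.trans h4)
    · right; left
      have h3 : (U ⊔ W) ⊓ X = U ⊔ W ⊓ X := sup_inf_assoc_of_le W (inf_eq_right.1 h2)
      rw [sup_comm U W, h.compl.sup_eq_top, top_inf_eq, inf_comm W X, h1, sup_bot_eq] at h3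
      exact h3
  · have h3 : (W ⊔ U) ⊓ X = W ⊔ U ⊓ X := sup_inf_assoc_of_le U (inf_eq_right.1 h1)
    rw [h.compl.sup_eq_top, top_inf_eq, inf_comm U X] at h3
    rcases h2 with h2 | h2
    · left
      rw [h3, h2, sup_bot_eq]
    · right; right
      rw [h3, h2, h.compl.sup_eq_top]

theorem irr_fx [FiniteDimensional F V] (hW : Irr x W) (h2 : 2 ≤ finrank F W) : W ⊓ fx x = ⊥ := by
  rcases hW.2.2 _ inf_le_left (hW.2.1.inf inv_fx) with h | h
  · exact h
  · exfalso
    obtain ⟨U, hU, hd⟩ := exists_sub W (a := 1) (by omega)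
    have h3 : Inv x U := inv_of_le_fx (hU.trans (inf_eq_left.1 h))
    rcases hW.2.2 _ hU h3 with h4 | h4
    · rw [h4, finrank_bot] at hd
      omega
    · rw [h4] at hd
      omega

theorem Two.fx_bot [FiniteDimensional F V] (h : Two x W U) (hW : 2 ≤ finrank F W) (hU : 2 ≤ finrank F U) :
    fx x = ⊥ := by
  have h1 := irr_fx h.iW hW
  have h2 := irr_fx h.iU hU
  rcases h.cases inv_fx with h3 | h3 | h3 | h3
  · exact h3
  · exfalso
    rw [h3, inf_idem] at h1
    exact h.iW.1 h1
  · exfalso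
    rw [h3, inf_idem] at h2
    exact h.iU.1 h2
  · exfalso
    rw [h3, inf_top_eq] at h1
    exact h.iW.1 h1

/-- an operator commuting with `x` is a polynomial in `x` on an irreducible summand -/
theorem exists_poly (hW : Irr x W) {e : Module.End F V} (hc : Commute e x) (he : Inv e W) :
    ∃ p : F[X], ∀ w ∈ W, e w = aeval x p w := by
  obtain ⟨w0, hw0, hne⟩ := (Submodule.ne_bot_iff _).1 hW.1
  let f : F[X] →ₗ[F] V := (LinearMap.applyₗ w0).comp (aeval x).toLinearMap
  have hf : ∀ p, f p = aeval x p w0 := fun p => rfl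
  have hle : LinearMap.range f ≤ W := by
    rintro _ ⟨p, rfl⟩
    exact hW.2.1.aeval p w0 hw0
  have hinv : Inv x (LinearMap.range f) := by
    rintro _ ⟨p, rfl⟩
    refine ⟨X * p, ?_⟩
    rw [hf, hf, map_mul, aeval_X, Module.End.mul_apply]
  have hne2 : LinearMap.range f ≠ ⊥ := by
    intro h
    apply hne
    have : f 1 ∈ LinearMap.range f := ⟨1, rfl⟩
    rw [h, Submodule.mem_bot, hf, map_one] at this
    exact this
  have heq := (hW.2.2 _ hle hinv).resolve_left hne2
  have h1 : e w0 ∈ LinearMap.range f := by rw [heq]; exact he w0 hw0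
  obtain ⟨p, hp⟩ := h1
  rw [hf] at hp
  refine ⟨p, fun w hw => ?_⟩
  rw [← heq] at hw
  obtain ⟨g, rfl⟩ := hw
  rw [hf]
  have hcg : Commute e (aeval x g) := by
    induction g using Polynomial.induction_on' with
    | add p q hp hq => rw [map_add]; exact hp.add_right hq
    | monomial n c =>
      rw [aeval_monomial]
      exact (Algebra.commute_algebraMap_right _ _).mul_right (hc.pow_right n)
  rw [← Module.End.mul_apply, hcg.eq, Module.End.mul_apply, ← hp, ← Module.End.mul_apply, ← map_mul, mul_comm, map_mul,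
    Module.End.mul_apply]

section adj

variable {B : V → V → F}

/-- the adjoint of a polynomial -/
theorem adj_aeval (hB : Sy B) (hx : ∀ v w, B (x v) (x w) = B v w) (hW : Inv x W) {N : ℕ}
    (hN : ∀ w ∈ W, (x ^ (N + 1)) w = w) (p : F[X]) : ∀ v ∈ W, ∀ w ∈ W, B (aeval x p v) w = B v (aeval (x ^ N) p w) := by
  have h1 : ∀ v ∈ W, ∀ w ∈ W, B (x v) w = B v ((x ^ N) w) := by
    intro v hv w hw
    conv_lhs => rw [← hN w hw]
    rw [pow_succ', Module.End.mul_apply, hx]
  have h2 : ∀ i : ℕ, ∀ v ∈ W, ∀ w ∈ W, B ((x ^ i) v) w = B v (((x ^ N) ^ i) w) := by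
    intro i
    induction i with
    | zero => intro v _ w _; rfl
    | succ i ih =>
      intro v hv w hw
      rw [pow_succ', Module.End.mul_apply, h1 _ (hW.pow i v hv) w hw, ih v hv _ (hW.pow N w hw), pow_succ (x ^ N),
        Module.End.mul_apply]
  induction p using Polynomial.induction_on' with
  | add p q hp hq =>
    intro v hv w hw
    rw [map_add, map_add, LinearMap.add_apply, LinearMap.add_apply, hB.add, hB.add', hp v hv w hw, hq v hv w hw]
  | monomial n c =>
    intro v hv w hw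
    rw [aeval_monomial, aeval_monomial, Module.End.mul_apply, Module.End.mul_apply, Module.algebraMap_end_apply,
      Module.algebraMap_end_apply, hB.smul, hB.smul', h2 n v hv w hw]

end adj

section frob

variable [Fintype F]

theorem aeval_pow_card (y : Module.End F V) (p : F[X]) (a : ℕ) :
    aeval (y ^ (Fintype.card F ^ a)) p = (aeval y p) ^ (Fintype.card F ^ a) := by
  induction a generalizing y with
  | zero => rw [pow_zero, pow_one, pow_one]
  | succ a ih =>
    have h1 : ∀ z : Module.End F V, aeval (z ^ Fintype.card F) p = (aeval z p) ^ Fintype.card F := by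
      intro z
      rw [← map_pow, ← FiniteField.expand_card, expand_aeval]
    rw [pow_succ, pow_mul, h1, ih, ← pow_mul]

theorem pow_eq_on {e f : Module.End F V} (he : Inv e W) (h : ∀ w ∈ W, e w = f w) (n : ℕ) :
    ∀ w ∈ W, (e ^ n) w = (f ^ n) w := by
  induction n with
  | zero => intro w _; rfl
  | succ n ih =>
    intro w hw
    rw [pow_succ, pow_succ, Module.End.mul_apply, Module.End.mul_apply, ih _ (he w hw), h w hw]

variable {B : V → V → F}

/-- **the adjoint is a power** -/
theorem adj_pow (hB : Sy B) (hx : ∀ v w, B (x v) (x w) = B v w) (hW : Irr x W) {a : ℕ}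
    (hN : ∀ w ∈ W, (x ^ (Fintype.card F ^ a + 1)) w = w) {e : Module.End F V} (hc : Commute e x) (he : Inv e W) :
    ∀ v ∈ W, ∀ w ∈ W, B (e v) w = B v ((e ^ (Fintype.card F ^ a)) w) := by
  obtain ⟨p, hp⟩ := exists_poly hW hc he
  intro v hv w hw
  rw [hp v hv, adj_aeval hB hx hW.2.1 hN p v hv w hw, aeval_pow_card, pow_eq_on he hp _ w hw]

omit [Fintype F] in
theorem pow_iter {M : Type*} [Monoid M] {q : ℕ} {y : M} {a : ℕ} (h : y ^ (q ^ a) = y) (k : ℕ) :
    y ^ (q ^ (a * k)) = y := by
  induction k with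
  | zero => rw [mul_zero, pow_zero, pow_one]
  | succ k ih => rw [mul_add, mul_one, pow_add, pow_mul, ih, h]

/-- the two Frobenius relations -/
theorem scalar_of_frob {M : Type*} [Monoid M] {q : ℕ} {y : M} {a r : ℕ} (hr : r.Prime) (hra : ¬ r ∣ a)
    (h1 : y ^ (q ^ a) = y) (h2 : y ^ (q ^ r) = y) : y ^ q = y := by
  have hcop : Nat.Coprime a r := ((Nat.Prime.coprime_iff_not_dvd hr).2 hra).symm
  obtain ⟨k, hk⟩ : ∃ k, a * k ≡ 1 [MOD r] := by
    obtain ⟨k, hk⟩ := Nat.exists_mul_mod_eq_one_of_coprime hcop hr.one_lt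
    exact ⟨k, by rw [Nat.ModEq, hk.2, Nat.mod_eq_of_lt hr.one_lt]⟩
  have hdiv := Nat.div_add_mod (a * k) r
  have hmod : a * k % r = 1 := by
    have h3 := hk
    rw [Nat.ModEq, Nat.mod_eq_of_lt hr.one_lt] at h3
    exact h3
  have h4 := pow_iter h1 k
  rw [← hdiv, hmod, pow_add, pow_one, pow_mul, pow_iter h2] at h4
  exact h4

end frob

end Cfsg.Agent.H427.Sg
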