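import Cfsg.Agent.H427.Sg.Fld
import Cfsg.Agent.H427.Sg.Lin
import Cfsg.Agent.H427.Fc.SpR
import Cfsg.Agent.ClassicalGeometry.SympIso

/-!
# The elements of the symplectic groups (helper427, S3938)

* `exists_singer` : an irreducible element of order `q ^ m + 1`;
* `exists_two`    : an element with two irreducible blocks of dimensions `2 a`, `2 b`.
-/

set_option autoImplicit false

namespace Cfsg.Agent.H427.Sg

open Module Cfsg Cfsg.Agent.H951 Cfsg.Agent.H427.Fc
open scoped Matrix

universe u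

variable {F : Type u} [Field F]

/-- the image of an irreducible module -/
theorem irr_range {K V : Type*} [AddCommGroup K] [Module F K] [AddCommGroup V] [Module F V] {y : Module.End F K}
    {x : Module.End F V} (hy : Irr y ⊤) {φ : K →ₗ[F] V} (hφ : Function.Injective φ) (hc : ∀ v, φ (y v) = x (φ v)) :
    Irr x (LinearMap.range φ) := by
  refine ⟨fun h => ?_, ?_, fun X hX hXi => ?_⟩
  · apply hy.1
    rw [eq_bot_iff]
    intro v _
    have h1 : φ v ∈ LinearMap.range φ := ⟨v, rfl⟩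
    rw [h, Submodule.mem_bot] at h1
    exact hφ (by rw [h1, map_zero])
  · rintro _ ⟨v, rfl⟩
    exact ⟨y v, hc v⟩
  · have h1 : Inv y (X.comap φ) := by
      intro v hv
      have h2 := hXi _ hv
      rw [← hc] at h2
      exact h2
    have h2 : (X.comap φ).map φ = X := by
      rw [Submodule.map_comap_eq, inf_eq_right.2 hX]
    rcases hy.2.2 _ le_top h1 with h3 | h3
    · left
      rw [← h2, h3, Submodule.map_bot]
    · right
      rw [← h2, h3, Submodule.map_top]

variable [Fintype F]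

/-- an irreducible element of order `q ^ m + 1` -/
theorem exists_singer {m : ℕ} (hm : 1 ≤ m) : ∃ s : Matrix.symplecticGroup (Fin m) F, Irr (rhoSp m F s) ⊤ ∧
    orderOf s = Fintype.card F ^ m + 1 := by
  obtain ⟨K, _, _, _, B, x, halt, hnd, hdim, hiso, hirr, hord⟩ := exists_model F hm
  obtain ⟨e, he⟩ := ClassicalGeometry.SympIso.exists_linearEquiv_sympForm B halt hnd hdim
  obtain ⟨s, hs⟩ := rp_symp.full ((e.trans x).trans e.symm) (by
    intro v w
    rw [← he, ← he, LinearEquiv.trans_apply, LinearEquiv.trans_apply, LinearEquiv.trans_apply, LinearEquiv.trans_apply,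
      LinearEquiv.apply_symm_apply, LinearEquiv.apply_symm_apply, hiso])
  have hsv : ∀ v, rhoSp m F s v = e.symm (x (e v)) := fun v => by rw [hs]; rfl
  refine ⟨s, ?_, ?_⟩
  · have h1 := irr_range (x := rhoSp m F s) hirr (φ := e.symm.toLinearMap) e.symm.injective (fun v => by
      rw [hsv]
      change e.symm (x v) = e.symm (x (e (e.symm v)))
      rw [LinearEquiv.apply_symm_apply])
    rwa [LinearEquiv.range] at h1
  · rw [← hord]
    apply orderOf_eq_orderOf_iff.2
    intro n
    have h1 : ∀ n : ℕ, ∀ v, rhoSp m F (s ^ n) v = e.symm ((x ^ n) (e v)) := by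
      intro n
      induction n with
      | zero =>
        intro v
        rw [pow_zero, pow_zero, map_one]
        change v = e.symm (e v)
        rw [LinearEquiv.symm_apply_apply]
      | succ n ih =>
        intro v
        rw [pow_succ, pow_succ, map_mul, Module.End.mul_apply, hsv, ih, LinearEquiv.apply_symm_apply,
          LinearEquiv.mul_apply]
    constructor
    · intro h
      apply LinearEquiv.ext
      intro v
      have h2 := h1 n (e.symm v)
      rw [h, map_one, LinearEquiv.apply_symm_apply] at h2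
      exact (e.symm.injective h2).symm
    · intro h
      apply rhoSp_inj
      rw [map_one]
      apply LinearMap.ext
      intro v
      rw [h1, h]
      change e.symm (e v) = v
      rw [LinearEquiv.symm_apply_apply]

/-- an element with two irreducible blocks -/
structure El (F : Type u) [Field F] [Fintype F] (m a b : ℕ) (s : Matrix.symplecticGroup (Fin m) F)
    (W U : Submodule F (Fin m ⊕ Fin m → F)) : Prop where
  two : Two (rhoSp m F s) W U
  dW : finrank F W = 2 * a
  dU : finrank F U = 2 * b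
  perp : ∀ w ∈ W, ∀ u ∈ U, sympForm m F w u = 0
  pW : ∀ w ∈ W, ((rhoSp m F s) ^ (Fintype.card F ^ a + 1)) w = w
  pU : ∀ u ∈ U, ((rhoSp m F s) ^ (Fintype.card F ^ b + 1)) u = u
  oa : Fintype.card F ^ a + 1 ∣ orderOf s
  ob : Fintype.card F ^ b + 1 ∣ orderOf s
  ord : s ^ ((Fintype.card F ^ a + 1) * (Fintype.card F ^ b + 1)) = 1

/-- **existence** -/
theorem exists_two {m a b : ℕ} (ha : 1 ≤ a) (hb : 1 ≤ b) (hab : a + b = m) (hne : a ≠ b) :
    ∃ s W U, El F m a b s W U := by
  obtain ⟨K₁, _, _, _, B₁, x₁, halt₁, hnd₁, hdim₁, hiso₁, hirr₁, hord₁⟩ := exists_model F ha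
  obtain ⟨K₂, _, _, _, B₂, x₂, halt₂, hnd₂, hdim₂, hiso₂, hirr₂, hord₂⟩ := exists_model F hb
  obtain ⟨B, hB⟩ : ∃ B : LinearMap.BilinForm F (K₁ × K₂), ∀ v w, B v w = B₁ v.1 w.1 + B₂ v.2 w.2 :=
    ⟨B₁.comp (LinearMap.fst F K₁ K₂) (LinearMap.fst F K₁ K₂) + B₂.comp (LinearMap.snd F K₁ K₂) (LinearMap.snd F K₁ K₂),
      fun v w => rfl⟩
  obtain ⟨e, he⟩ := ClassicalGeometry.SympIso.exists_linearEquiv_sympForm B
    (fun v => by rw [hB, halt₁, halt₂, add_zero]) (fun u hu => by
      refine Prod.ext (hnd₁ _ fun v => ?_) (hnd₂ _ fun v => ?_)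
      · have h1 := hu (v, 0)
        rw [hB] at h1
        simpa using h1
      · have h1 := hu (0, v)
        rw [hB] at h1
        simpa using h1) (k := m) (by rw [finrank_prod, hdim₁, hdim₂, ← hab]; ring)
  let x : (K₁ × K₂) ≃ₗ[F] (K₁ × K₂) := x₁.prodCongr x₂
  have hx : ∀ v, x v = (x₁ v.1, x₂ v.2) := fun v => rfl
  obtain ⟨s, hs⟩ := rp_symp.full ((e.trans x).trans e.symm) (by
    intro v w
    rw [← he, ← he, LinearEquiv.trans_apply, LinearEquiv.trans_apply, LinearEquiv.trans_apply, LinearEquiv.trans_apply,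
      LinearEquiv.apply_symm_apply, LinearEquiv.apply_symm_apply, hB, hB, hx, hx, hiso₁, hiso₂])
  have hsv : ∀ v, rhoSp m F s v = e.symm (x (e v)) := fun v => by rw [hs]; rfl
  have hpow : ∀ n : ℕ, ∀ v, ((rhoSp m F s) ^ n) v = e.symm ((x₁ ^ n) (e v).1, (x₂ ^ n) (e v).2) := by
    intro n
    induction n with
    | zero =>
      intro v
      rw [pow_zero, pow_zero, pow_zero]
      change v = e.symm (e v)
      rw [LinearEquiv.symm_apply_apply]
    | succ n ih =>
      intro v
      rw [pow_succ, pow_succ, pow_succ, Module.End.mul_apply, hsv, ih, LinearEquiv.apply_symm_apply,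
        LinearEquiv.mul_apply, LinearEquiv.mul_apply, hx]
  let φ₁ : K₁ →ₗ[F] (Fin m ⊕ Fin m → F) := e.symm.toLinearMap.comp (LinearMap.inl F K₁ K₂)
  let φ₂ : K₂ →ₗ[F] (Fin m ⊕ Fin m → F) := e.symm.toLinearMap.comp (LinearMap.inr F K₁ K₂)
  have hφ₁ : ∀ v, φ₁ v = e.symm (v, 0) := fun v => rfl
  have hφ₂ : ∀ v, φ₂ v = e.symm (0, v) := fun v => rfl
  have hi₁ : Function.Injective φ₁ := e.symm.injective.comp LinearMap.inl_injective
  have hi₂ : Function.Injective φ₂ := e.symm.injective.comp LinearMap.inr_injective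
  have hc₁ : ∀ v, φ₁ (x₁ v) = rhoSp m F s (φ₁ v) := fun v => by
    rw [hsv, hφ₁, hφ₁, LinearEquiv.apply_symm_apply, hx, map_zero]
  have hc₂ : ∀ v, φ₂ (x₂ v) = rhoSp m F s (φ₂ v) := fun v => by
    rw [hsv, hφ₂, hφ₂, LinearEquiv.apply_symm_apply, hx, map_zero]
  have hd₁ : finrank F (LinearMap.range φ₁) = 2 * a := by rw [LinearMap.finrank_range_of_inj hi₁, hdim₁]
  have hd₂ : finrank F (LinearMap.range φ₂) = 2 * b := by rw [LinearMap.finrank_range_of_inj hi₂, hdim₂]
  have hsn : ∀ n : ℕ, s ^ n = 1 ↔ (x₁ ^ n = 1 ∧ x₂ ^ n = 1) := by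
    intro n
    constructor
    · intro h
      have h1 : ∀ v, e.symm ((x₁ ^ n) (e v).1, (x₂ ^ n) (e v).2) = v := by
        intro v
        rw [← hpow, ← map_pow, h, map_one]
        rfl
      have h2 : ∀ w : K₁ × K₂, ((x₁ ^ n) w.1, (x₂ ^ n) w.2) = w := by
        intro w
        have h3 := h1 (e.symm w)
        rw [LinearEquiv.apply_symm_apply] at h3
        exact e.symm.injective h3
      exact ⟨LinearEquiv.ext fun v => congrArg Prod.fst (h2 (v, 0)), LinearEquiv.ext fun v => congrArg Prod.snd (h2 (0, v))⟩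
    · rintro ⟨h1, h2⟩
      apply rhoSp_inj
      rw [map_one]
      apply LinearMap.ext
      intro v
      rw [map_pow, hpow, h1, h2]
      change e.symm (e v) = v
      rw [LinearEquiv.symm_apply_apply]
  refine ⟨s, LinearMap.range φ₁, LinearMap.range φ₂, ⟨irr_range hirr₁ hi₁ hc₁, irr_range hirr₂ hi₂ hc₂, ?_, ?_⟩, hd₁, hd₂,
    ?_, ?_, ?_, ?_, ?_, ?_⟩
  · constructor
    · rw [Submodule.disjoint_def]
      rintro _ ⟨v, rfl⟩ ⟨w, hw⟩
      rw [hφ₁, hφ₂] at hw
      have h1 := congrArg Prod.fst (e.symm.injective hw)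
      change 0 = v at h1
      rw [← h1, map_zero]
    · rw [codisjoint_iff, eq_top_iff]
      intro v _
      have h1 : v = φ₁ (e v).1 + φ₂ (e v).2 := by
        rw [hφ₁, hφ₂, ← map_add, Prod.mk_add_mk, add_zero, zero_add, LinearEquiv.symm_apply_apply]
      rw [h1]
      exact Submodule.add_mem_sup ⟨_, rfl⟩ ⟨_, rfl⟩
  · rw [hd₁, hd₂]
    omega
  · rintro _ ⟨v, rfl⟩ _ ⟨w, rfl⟩
    rw [← he, hφ₁, hφ₂, LinearEquiv.apply_symm_apply, LinearEquiv.apply_symm_apply, hB]
    simp
  · rintro _ ⟨v, rfl⟩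
    rw [hpow, hφ₁, LinearEquiv.apply_symm_apply, ← hord₁, pow_orderOf_eq_one, map_zero]
    rfl
  · rintro _ ⟨v, rfl⟩
    rw [hpow, hφ₂, LinearEquiv.apply_symm_apply, ← hord₂, pow_orderOf_eq_one, map_zero]
    rfl
  · rw [← hord₁]
    exact orderOf_dvd_of_pow_eq_one ((hsn _).1 (pow_orderOf_eq_one s)).1
  · rw [← hord₂]
    exact orderOf_dvd_of_pow_eq_one ((hsn _).1 (pow_orderOf_eq_one s)).2
  · rw [hsn, ← hord₁, ← hord₂]
    constructor
    · rw [pow_mul, pow_orderOf_eq_one, one_pow]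
    · rw [mul_comm, pow_mul, pow_orderOf_eq_one, one_pow]

end Cfsg.Agent.H427.Sg
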