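import Cfsg.Agent.H427.Sg.Elt
import Cfsg.Agent.H884.ElKill
import Cfsg.Agent.H884.ElFin
import Cfsg.Agent.H163.PG.Prim

/-!
# Extension fields normalised by an element with two blocks (helper427, S3938)

* `exists_prim` : primitive primes dividing `q ^ a + 1`;
* `comm_field'` : elements of order prime to `s` centralise a normalised field of degree `s`;
* `no_field`    : `q` even, `a`, `b` coprime: no self-adjoint quadratic field is normalised by `s`.
-/

set_option autoImplicit false
set_option linter.unusedSectionVars false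

namespace Cfsg.Agent.H427.Sg

open Module Cfsg Cfsg.Geo Cfsg.Agent.H951 Cfsg.Agent.H427.Fc
open Cfsg.Agent.H884.El (PP exists_char one_lt_q)
open scoped Matrix MatrixGroups

universe u

variable {F : Type u} [Field F]

/-- a prime with `ord_u(q) = 2 a` divides `q ^ a + 1` -/
theorem pp_dvd {q a u : ℕ} (hq : 1 < q) (ha : 1 ≤ a) (hu : PP q (2 * a) u) : u ∣ q ^ a + 1 := by
  have h1 : u ∣ q ^ (2 * a) - 1 := (hu.dvd_iff hq.le _).2 dvd_rfl
  have h2 : q ^ (2 * a) - 1 = (q ^ a - 1) * (q ^ a + 1) := by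
    rw [two_mul, pow_add]
    obtain ⟨n, hn⟩ : ∃ n, q ^ a = n + 1 := ⟨q ^ a - 1, by have := Nat.one_le_pow a q (by omega); omega⟩
    rw [hn, Nat.add_sub_cancel]
    have : (n + 1) * (n + 1) = n * (n + 1 + 1) + 1 := by ring
    rw [this, Nat.add_sub_cancel]
  rw [h2] at h1
  refine (hu.prime.dvd_mul.1 h1).resolve_left fun h3 => ?_
  rw [hu.dvd_iff hq.le] at h3
  have := Nat.le_of_dvd (by omega) h3
  omega

variable (F) in
theorem exists_prim [Fintype F] {a : ℕ} (ha : 2 ≤ a) (hexc : ¬ (Fintype.card F = 2 ∧ a = 3)) :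
    ∃ p f u : ℕ, p.Prime ∧ 1 ≤ f ∧ Nat.card F = p ^ f ∧ PP p (f * (2 * a)) u ∧ PP (Nat.card F) (2 * a) u ∧
      u ∣ Fintype.card F ^ a + 1 := by
  obtain ⟨p, f, hp, hf, hpF⟩ := exists_char F
  obtain ⟨u, hu⟩ := H163.PG.exists_ppd (p := p) (f := f) (k := 2 * a) hp.two_le (by nlinarith) (by
    rintro ⟨h2, h6⟩
    apply hexc
    have h3 : f * a = 3 := by
      have : f * (2 * a) = 2 * (f * a) := by ring
      omega
    have h4 : a ∣ 3 := Dvd.intro_left f h3
    have h5 : a = 3 := by
      rcases (Nat.dvd_prime Nat.prime_three).1 h4 with h | h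
      · omega
      · exact h
    have h6 : f = 1 := by subst h5; omega
    refine ⟨?_, h5⟩
    rw [← Nat.card_eq_fintype_card, hpF, h2, h6, pow_one])
  have hpu : PP p (f * (2 * a)) u := ⟨hu.prime, hu.ord⟩
  have hqu : PP (Nat.card F) (2 * a) u := by
    refine ⟨hu.prime, ?_⟩
    have h1 := hu.ord
    rw [hpF, Nat.cast_pow, orderOf_pow' _ (by omega), h1, Nat.gcd_eq_right (Dvd.intro _ rfl),
      Nat.mul_div_cancel_left _ (by omega)]
  refine ⟨p, f, u, hp, hf, hpF, hpu, hqu, ?_⟩
  rw [← Nat.card_eq_fintype_card]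
  exact pp_dvd (one_lt_q F) (by omega) hqu

/-- elements of order prime to `s` commute with a normalised field of degree `s`. -/
theorem comm_field' [Finite F] {ι : Type} [Fintype ι] [DecidableEq ι] [Nonempty ι] {s : ℕ}
    {K : Subalgebra F (Matrix ι ι F)} (hK : IsFieldSubalgebra s K)
    {g : GL ι F} (hgK : g ∈ subalgebraNormalizer K) {r : ℕ} (hrs : Nat.Coprime r s) (hgr : g ^ r = 1) :
    ∀ x ∈ K, (g : Matrix ι ι F) * x = x * (g : Matrix ι ι F) := by
  have hN : H912.NormAlg (subalgebraNormalizer K) K := fun _ hh a ha => (hh a).mp ha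
  let _ : Field K := (H912.isField_of_fieldSub hK).toField
  have hfd : Module.Finite F K := inferInstance
  have hKfin : Finite K := Module.finite_of_finite F
  have hgal : IsGalois F K := inferInstance
  let σ : K ≃ₐ[F] K := H912.conjSub hN ⟨g, hgK⟩
  have hσk : ∀ (k : ℕ) (x : K), (((σ ^ k) x : K) : Matrix ι ι F) =
      ((g ^ k : GL ι F) : Matrix ι ι F) * x * (((g ^ k)⁻¹ : GL ι F) : Matrix ι ι F) := by
    intro k
    induction k with
    | zero => intro x; simp
    | succ k ih =>
      intro x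
      rw [pow_succ, AlgEquiv.mul_apply, ih, H912.conjSub_coe, pow_succ, _root_.mul_inv_rev, Units.val_mul,
        Units.val_mul]
      simp only [Matrix.mul_assoc]
  have hσs : σ ^ r = 1 := by
    apply AlgEquiv.ext
    intro x
    apply Subtype.ext
    rw [hσk, hgr]
    simp
  have hσ1 : σ = 1 := by
    have h1 : orderOf σ ∣ r := orderOf_dvd_of_pow_eq_one hσs
    have h2 : orderOf σ ∣ s := by
      have h3 : Nat.card (K ≃ₐ[F] K) = s := by
        rw [IsGalois.card_aut_eq_finrank, hK.finrank_eq]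
      rw [← h3]
      exact orderOf_dvd_natCard σ
    have h4 : orderOf σ ∣ 1 := by
      rw [← Nat.Coprime.gcd_eq_one hrs]
      exact Nat.dvd_gcd h1 h2
    exact orderOf_eq_one_iff.1 (Nat.dvd_one.1 h4)
  intro x hx
  have h1 := H912.conjSub_coe hN ⟨g, hgK⟩ ⟨x, hx⟩
  have h2 : (H912.conjSub hN ⟨g, hgK⟩ ⟨x, hx⟩ : K) = ⟨x, hx⟩ := by
    change σ ⟨x, hx⟩ = ⟨x, hx⟩
    rw [hσ1]; rfl
  rw [h2] at h1
  have h3 : x = (g : Matrix ι ι F) * x * ((g⁻¹ : GL ι F) : Matrix ι ι F) := h1
  conv_rhs => rw [h3]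
  rw [Matrix.mul_assoc, ← Units.val_mul, inv_mul_cancel, Units.val_one, Matrix.mul_one]

theorem field_contra [Fintype F] {K : Type*} [Field K] [Finite K] [Algebra F K] (h : finrank F K = 2)
    (hall : ∀ y : K, y ^ (Fintype.card F) = y) : False := by
  have : Fintype K := Fintype.ofFinite K
  obtain ⟨g, hg⟩ := IsCyclic.exists_ofOrder_eq_natCard (α := Kˣ)
  have hq := Fintype.one_lt_card (α := F)
  have h1 : g ^ (Fintype.card F - 1) = 1 := by
    have h2 : g ^ (Fintype.card F) = g := Units.ext (by rw [Units.val_pow_eq_pow_val]; exact hall g)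
    obtain ⟨n, hn⟩ : ∃ n, Fintype.card F = n + 1 := ⟨Fintype.card F - 1, by omega⟩
    rw [hn, pow_succ] at h2
    rw [hn, Nat.add_sub_cancel]
    exact mul_eq_right.1 h2
  have h3 := Nat.le_of_dvd (by omega) (orderOf_dvd_of_pow_eq_one h1)
  rw [hg, Nat.card_units, Nat.card_eq_fintype_card, Module.card_eq_pow_finrank (K := F), h, pow_two] at h3
  have h4 : 2 * Fintype.card F ≤ Fintype.card F * Fintype.card F := Nat.mul_le_mul_right _ hq
  omega

section

variable [Fintype F] {V : Type*} [AddCommGroup V] [Module F V] [FiniteDimensional F V] {x : Module.End F V}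
  {W U : Submodule F V} {B : V → V → F}

/-- on a nondegenerate summand -/
theorem pow_eq_of_sa (hB : Sy B) (h : Two x W U) (hx : ∀ v w, B (x v) (x w) = B v w)
    (hp : ∀ w ∈ W, ∀ u ∈ U, B w u = 0) {a : ℕ} (hN : ∀ w ∈ W, (x ^ (Fintype.card F ^ a + 1)) w = w)
    {e : Module.End F V} (hc : Commute e x) (hsa : ∀ v w, B (e v) w = B v (e w)) (he : Inv e W) :
    ∀ w ∈ W, (e ^ (Fintype.card F ^ a)) w = e w := by
  intro w hw
  have hew : e w ∈ W := he w hw
  have hpw : (e ^ (Fintype.card F ^ a)) w ∈ W := he.pow _ w hw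
  have h1 : (e ^ (Fintype.card F ^ a)) w - e w = 0 := by
    refine hB.nd _ fun v => ?_
    have hv : v ∈ W ⊔ U := by rw [h.compl.sup_eq_top]; exact Submodule.mem_top
    obtain ⟨w', hw', u', hu', rfl⟩ := Submodule.mem_sup.1 hv
    have h2 := adj_pow hB hx h.iW hN hc he w' hw' w hw
    rw [hsa] at h2
    rw [hB.add', hp _ (W.sub_mem hpw hew) _ hu', add_zero, hB.symm, sub_eq_add_neg, hB.add', hB.neg, ← h2]
    exact add_self hB.two _
  exact sub_eq_zero.1 h1

end

section

variable [Fintype F] {m : ℕ}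

theorem inv_of_comm {V : Type*} [AddCommGroup V] [Module F V] [FiniteDimensional F V] {x : Module.End F V}
    {W U : Submodule F V} (h : Two x W U) {e : Module.End F V} (hc : Commute e x) (he : Function.Injective e) :
    Inv e W := by
  have h1 : Inv x (W.map e) := by
    rintro _ ⟨w, hw, rfl⟩
    refine ⟨x w, h.iW.2.1 w hw, ?_⟩
    rw [← Module.End.mul_apply, hc.eq, Module.End.mul_apply]
  have h2 : finrank F (W.map e) = finrank F W := (Submodule.equivMapOfInjective e he W).finrank_eq.symm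
  have h3 := Submodule.finrank_add_eq_of_isCompl h.compl
  have hW0 : finrank F W ≠ 0 := fun h4 => h.iW.1 (Submodule.finrank_eq_zero.1 h4)
  have hU0 : finrank F U ≠ 0 := fun h4 => h.iU.1 (Submodule.finrank_eq_zero.1 h4)
  rcases h.cases h1 with h4 | h4 | h4 | h4
  · rw [h4, finrank_bot] at h2
    exact absurd h2.symm hW0
  · intro w hw
    rw [← h4]
    exact ⟨w, hw, rfl⟩
  · rw [h4] at h2
    exact absurd h2.symm h.ne
  · rw [h4, finrank_top] at h2
    omega

/-- **no self-adjoint quadratic field** -/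
theorem no_field {a b : ℕ} (h2 : (2 : F) = 0) (hb : 1 ≤ b) (hba : b < a) (hcop : Nat.Coprime a b)
    {s : Matrix.symplecticGroup (Fin m) F} {W U : Submodule F (Fin m ⊕ Fin m → F)} (h : El F m a b s W U)
    {K : Subalgebra F (Matrix (Fin m ⊕ Fin m) (Fin m ⊕ Fin m) F)} (hK : IsFieldSubalgebra 2 K)
    (hsa : IsSelfAdjointFor (sympForm m F) K) (hcomm : ∀ k ∈ K, s.1 * k = k * s.1) : False := by
  have hne : Nonempty (Fin m ⊕ Fin m) := by
    by_contra hcon
    rw [not_nonempty_iff] at hcon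
    apply h.two.iW.1
    rw [eq_bot_iff]
    intro v _
    exact Subsingleton.elim _ _
  let _ : Field K := (H912.isField_of_fieldSub hK).toField
  have hKfin : Finite K := Module.finite_of_finite F
  have hB := sy_symp (m := m) h2
  have hcardK : Nat.card K = Fintype.card F ^ 2 := by
    have : Fintype K := Fintype.ofFinite K
    rw [Nat.card_eq_fintype_card, Module.card_eq_pow_finrank (K := F), hK.finrank_eq]
  -- operators
  have hinj : ∀ k : K, k ≠ 0 → Function.Injective (Matrix.toLin' (k : Matrix (Fin m ⊕ Fin m) (Fin m ⊕ Fin m) F)) := by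
    intro k hk
    obtain ⟨y, -, hy⟩ := hK.inv k k.2 (fun h3 => hk (Subtype.ext h3))
    have hy' : y * (k : Matrix (Fin m ⊕ Fin m) (Fin m ⊕ Fin m) F) = 1 := by
      rw [mul_eq_one_comm]
      exact hy
    intro v w hvw
    have h3 := congrArg (fun z => y *ᵥ z) hvw
    simp only [Matrix.toLin'_apply, Matrix.mulVec_mulVec, hy', Matrix.one_mulVec] at h3
    exact h3
  have hmain : ∀ k : K, k ≠ 0 → k ^ (Fintype.card F) = k := by
    intro k hk
    have hc : Commute (Matrix.toLin' (k : Matrix (Fin m ⊕ Fin m) (Fin m ⊕ Fin m) F)) (rhoSp m F s) := by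
      change Matrix.toLin' _ * Matrix.toLin' _ = Matrix.toLin' _ * Matrix.toLin' _
      rw [Module.End.mul_eq_comp, Module.End.mul_eq_comp, ← Matrix.toLin'_mul, ← Matrix.toLin'_mul, hcomm k k.2]
    have hsak : ∀ v w, sympForm m F (Matrix.toLin' (k : Matrix (Fin m ⊕ Fin m) (Fin m ⊕ Fin m) F) v) w =
        sympForm m F v (Matrix.toLin' (k : Matrix (Fin m ⊕ Fin m) (Fin m ⊕ Fin m) F) w) := by
      intro v w
      rw [Matrix.toLin'_apply, Matrix.toLin'_apply]
      exact hsa k k.2 v w
    have hpk : ∀ n : ℕ, (Matrix.toLin' (k : Matrix (Fin m ⊕ Fin m) (Fin m ⊕ Fin m) F)) ^ n =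
        Matrix.toLin' ((k ^ n : K) : Matrix (Fin m ⊕ Fin m) (Fin m ⊕ Fin m) F) := by
      intro n
      rw [Subalgebra.coe_pow, Matrix.toLin'_pow]
    have key : ∀ {c : ℕ} {W' U' : Submodule F (Fin m ⊕ Fin m → F)}, Two (rhoSp m F s) W' U' →
        (∀ w ∈ W', ∀ u ∈ U', sympForm m F w u = 0) →
        (∀ w ∈ W', ((rhoSp m F s) ^ (Fintype.card F ^ c + 1)) w = w) → k ^ (Fintype.card F ^ c) = k := by
      intro c W' U' hT hp hN
      have h3 := pow_eq_of_sa hB hT (rp_symp.iso s) hp hN hc hsak (inv_of_comm hT hc (hinj k hk))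
      by_contra hcon
      obtain ⟨w0, hw0, hne⟩ := (Submodule.ne_bot_iff _).1 hT.iW.1
      have h4 := h3 w0 hw0
      rw [hpk] at h4
      have h5 : k ^ (Fintype.card F ^ c) - k ≠ 0 := sub_ne_zero.2 hcon
      apply hne
      apply hinj _ h5
      rw [map_zero, Subalgebra.coe_sub, map_sub, LinearMap.sub_apply, h4, sub_self]
    have ha1 : k ^ (Fintype.card F ^ a) = k := key h.two h.perp h.pW
    have hb1 : k ^ (Fintype.card F ^ b) = k := key h.two.symm (fun w hw u hu => by
      rw [hB.symm]; exact h.perp u hu w hw) h.pU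
    have h22 : k ^ (Fintype.card F ^ 2) = k := by
      have : Fintype K := Fintype.ofFinite K
      rw [← hcardK, Nat.card_eq_fintype_card, FiniteField.pow_card]
    by_cases h2a : 2 ∣ a
    · have h2b : ¬ 2 ∣ b := fun h2b => by
        have := Nat.dvd_gcd h2a h2b
        rw [hcop] at this
        omega
      exact scalar_of_frob Nat.prime_two h2b hb1 h22
    · exact scalar_of_frob Nat.prime_two h2a ha1 h22
  refine field_contra (F := F) (K := K) hK.finrank_eq fun y => ?_
  by_cases hy : y = 0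
  · rw [hy, zero_pow Fintype.card_ne_zero]
  · exact hmain y hy

end

end Cfsg.Agent.H427.Sg
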