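import Mathlib
import Cfsg.Agent.H951.Lin

/-!
# Symplectic spaces from fields (helper427, S3938)

* `exists_model` : a symplectic space of dimension `2 a` over a finite field `F` (any characteristic) with an irreducible
  isometry of order `q ^ a + 1`.
-/

set_option autoImplicit false
set_option linter.unusedSectionVars false

namespace Cfsg.Agent.H427.Sg

open Module Polynomial Cfsg.Agent.H951

universe u v

variable {F : Type u} [Field F] [Fintype F] {K : Type v} [Field K] [Finite K] [Algebra F K] {a : ℕ}

/-- the automorphism `x ↦ x ^ (q ^ a)` -/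
noncomputable def sg (F : Type u) [Field F] [Fintype F] (K : Type v) [Field K] [Finite K] [Algebra F K] (a : ℕ) :
    K ≃ₐ[F] K := (FiniteField.frobeniusAlgEquivOfAlgebraic F K) ^ a

theorem sg_apply (x : K) : sg F K a x = x ^ (Fintype.card F ^ a) := by
  rw [sg, AlgEquiv.coe_pow, FiniteField.coe_frobeniusAlgEquivOfAlgebraic_iterate]

theorem card_K (h : finrank F K = 2 * a) : Nat.card K = Fintype.card F ^ (2 * a) := by
  have : Fintype K := Fintype.ofFinite K
  rw [Nat.card_eq_fintype_card, Module.card_eq_pow_finrank (K := F), h]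

theorem sg_sg (h : finrank F K = 2 * a) (x : K) : sg F K a (sg F K a x) = x := by
  rw [sg_apply, sg_apply, ← pow_mul, ← pow_add, ← two_mul, ← card_K h]
  have : Fintype K := Fintype.ofFinite K
  rw [Nat.card_eq_fintype_card, FiniteField.pow_card]

/-- the form `tr (l x y ^ (q ^ a))` -/
noncomputable def fm (F : Type u) [Field F] [Fintype F] {K : Type v} [Field K] [Finite K] [Algebra F K] (a : ℕ) (l : K) :
    LinearMap.BilinForm F K :=
  LinearMap.mk₂ F (fun x y => Algebra.trace F K (l * x * sg F K a y))
    (fun x y z => by rw [mul_add, add_mul, map_add])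
    (fun c x y => by rw [mul_smul_comm, smul_mul_assoc, map_smul, smul_eq_mul])
    (fun x y z => by rw [map_add, mul_add, map_add])
    (fun c x y => by rw [map_smul, mul_smul_comm, map_smul, smul_eq_mul])

theorem fm_apply (l x y : K) : fm F a l x y = Algebra.trace F K (l * x * sg F K a y) := rfl

/-- the trace of an element with `σ c = - c` -/
theorem trace_zero (h : finrank F K = 2 * a) {c : K} (hc : sg F K a c = -c) : Algebra.trace F K c = 0 := by
  have h1 := FiniteField.algebraMap_trace_eq_sum_pow F K c
  rw [h, two_mul, Finset.sum_range_add, ← Finset.sum_add_distrib] at h1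
  have h2 : ∀ i ∈ Finset.range a, c ^ (Nat.card F ^ i) + c ^ (Nat.card F ^ (a + i)) = 0 := by
    intro i _
    have h3 : c ^ (Nat.card F ^ a) = -c := by
      rw [Nat.card_eq_fintype_card, ← sg_apply, hc]
    have h4 : (-c) ^ (Nat.card F ^ i) = - c ^ (Nat.card F ^ i) := by
      have h5 := map_neg (sg F K i) c
      rw [sg_apply, sg_apply] at h5
      rw [Nat.card_eq_fintype_card]
      exact h5
    rw [pow_add, pow_mul, h3, h4, add_neg_cancel]
  rw [Finset.sum_eq_zero h2] at h1
  exact (algebraMap F K).injective (by rw [h1, map_zero])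

theorem fm_alt (h : finrank F K = 2 * a) {l : K} (hl : sg F K a l = -l) (x : K) : fm F a l x x = 0 := by
  rw [fm_apply]
  apply trace_zero h
  rw [map_mul, map_mul, sg_sg h, hl]
  ring

theorem fm_nondeg {l : K} (hl : l ≠ 0) (x : K) (h : ∀ y, fm F a l x y = 0) : x = 0 := by
  have h1 := traceForm_nondegenerate F K
  have h2 : l * x = 0 := by
    refine h1.1 _ fun y => ?_
    rw [Algebra.traceForm_apply]
    have := h ((sg F K a).symm y)
    rwa [fm_apply, AlgEquiv.apply_symm_apply] at this
  exact (mul_eq_zero.1 h2).resolve_left hl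

/-- an element of norm one generating the group of order `q ^ a + 1` -/
theorem exists_zeta (h : finrank F K = 2 * a) : ∃ z : K, z ≠ 0 ∧ z * sg F K a z = 1 ∧ orderOf z = Fintype.card F ^ a + 1 := by
  have : Fintype K := Fintype.ofFinite K
  classical
  obtain ⟨g, hg⟩ := IsCyclic.exists_ofOrder_eq_natCard (α := Kˣ)
  have hq : 1 ≤ Fintype.card F ^ a := Nat.one_le_pow _ _ Fintype.card_pos
  have hc : Nat.card Kˣ = (Fintype.card F ^ a - 1) * (Fintype.card F ^ a + 1) := by
    rw [Nat.card_units, card_K h, two_mul, pow_add]
    obtain ⟨n, hn⟩ : ∃ n, Fintype.card F ^ a = n + 1 := ⟨Fintype.card F ^ a - 1, by omega⟩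
    rw [hn, Nat.add_sub_cancel]
    have : (n + 1) * (n + 1) = n * (n + 1 + 1) + 1 := by ring
    rw [this, Nat.add_sub_cancel]
  by_cases ha : a = 0
  · subst ha
    rw [mul_zero] at h
    have h1 : 0 < finrank F K := by
      have : Module.Finite F K := inferInstance
      exact Module.finrank_pos
    omega
  have hpos : 0 < Fintype.card F ^ a - 1 := by
    have : 1 < Fintype.card F ^ a := Nat.one_lt_pow ha Fintype.one_lt_card
    omega
  refine ⟨((g ^ (Fintype.card F ^ a - 1) : Kˣ) : K), Units.ne_zero _, ?_, ?_⟩
  · rw [sg_apply]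
    have h1 : (g ^ (Fintype.card F ^ a - 1)) * (g ^ (Fintype.card F ^ a - 1)) ^ (Fintype.card F ^ a) = 1 := by
      rw [← pow_succ', ← pow_mul, ← hc, ← hg, pow_orderOf_eq_one]
    have h2 := congrArg (Units.val) h1
    rwa [Units.val_mul, Units.val_pow_eq_pow_val (g ^ (Fintype.card F ^ a - 1)), Units.val_one] at h2
  · rw [orderOf_units, orderOf_pow' _ hpos.ne', hg, hc, Nat.gcd_eq_right (Dvd.intro _ rfl), Nat.mul_div_cancel_left _ hpos]

/-- irreducibility -/
theorem adjoin_eq_top (h : finrank F K = 2 * a) {z : K} (hz : orderOf z = Fintype.card F ^ a + 1) :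
    Algebra.adjoin F {z} = ⊤ := by
  have : Fintype K := Fintype.ofFinite K
  have hfd : FiniteDimensional F K := inferInstance
  have hq := Fintype.one_lt_card (α := F)
  have hz0 : z ≠ 0 := by
    rintro rfl
    have h1 : orderOf (0 : K) = 0 := by
      rw [orderOf_eq_zero_iff']
      intro n hn
      rw [zero_pow hn.ne']
      exact zero_ne_one
    omega
  have h1 : IntermediateField.adjoin F {z} = ⊤ := by
    apply IntermediateField.eq_of_le_of_finrank_eq le_top
    rw [IntermediateField.finrank_top', h]
    set j := finrank F (IntermediateField.adjoin F {z}) with hj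
    have h2 : j ∣ 2 * a := by
      rw [← h]
      exact Dvd.intro _ (Module.finrank_mul_finrank F (IntermediateField.adjoin F {z}) K)
    have hzm : z ∈ IntermediateField.adjoin F {z} := IntermediateField.mem_adjoin_simple_self F z
    have h3 : Nat.card (IntermediateField.adjoin F {z}) = Fintype.card F ^ j := by
      have : Fintype (IntermediateField.adjoin F {z}) := Fintype.ofFinite _
      rw [Nat.card_eq_fintype_card, Module.card_eq_pow_finrank (K := F)]
    have h4 : z ^ (Fintype.card F ^ j - 1) = 1 := by
      have : Fintype (IntermediateField.adjoin F {z}) := Fintype.ofFinite _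
      have h5 := FiniteField.pow_card_sub_one_eq_one (⟨z, hzm⟩ : IntermediateField.adjoin F {z})
        (fun h6 => hz0 (congrArg Subtype.val h6))
      rw [← Nat.card_eq_fintype_card, h3] at h5
      exact congrArg Subtype.val h5
    have h5 := orderOf_dvd_of_pow_eq_one h4
    rw [hz] at h5
    have ha : a ≠ 0 := by
      rintro rfl
      have : 0 < finrank F K := Module.finrank_pos
      omega
    have hj0 : 0 < j := Nat.pos_of_dvd_of_pos h2 (by omega)
    have h6 : 1 < Fintype.card F ^ j := Nat.one_lt_pow hj0.ne' hq
    have h7 := Nat.le_of_dvd (by omega) h5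
    have h8 : a < j := by
      by_contra hcon
      push Not at hcon
      have := Nat.pow_le_pow_right (le_of_lt hq) hcon
      omega
    obtain ⟨k, hk⟩ := h2
    have hk1 : k = 1 := by
      have h9 : k < 2 := by
        by_contra hcon
        push Not at hcon
        have := Nat.mul_le_mul_left j hcon
        omega
      have h10 : k ≠ 0 := by
        rintro rfl
        omega
      omega
    rw [hk, hk1, mul_one]
  have h2 := IntermediateField.adjoin_simple_toSubalgebra_of_isAlgebraic (Algebra.IsAlgebraic.isAlgebraic (R := F) z)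
  rw [h1] at h2
  rw [← h2]
  rfl

variable (F) in
/-- **the model** -/
theorem exists_model (ha : 1 ≤ a) : ∃ (K : Type) (_ : AddCommGroup K) (_ : Module F K) (_ : FiniteDimensional F K)
    (B : LinearMap.BilinForm F K) (x : K ≃ₗ[F] K), (∀ v, B v v = 0) ∧ (∀ u, (∀ v, B u v = 0) → u = 0) ∧
      finrank F K = 2 * a ∧ (∀ v w, B (x v) (x w) = B v w) ∧ Irr x.toLinearMap ⊤ ∧
      orderOf x = Fintype.card F ^ a + 1 := by
  obtain ⟨p, hp⟩ := CharP.exists F
  have : Fact p.Prime := ⟨CharP.char_is_prime F p⟩
  have hne : NeZero (2 * a) := ⟨by omega⟩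
  let K := FiniteField.Extension F p (2 * a)
  have hK : finrank F K = 2 * a := FiniteField.finrank_extension F p (2 * a)
  have hfin : Finite K := Module.finite_of_finite F
  obtain ⟨z, hz0, hz1, hz⟩ := exists_zeta hK
  -- `l`
  obtain ⟨l, hl0, hl⟩ : ∃ l : K, l ≠ 0 ∧ sg F K a l = -l := by
    refine ⟨z - sg F K a z, fun h => ?_, by rw [map_sub, sg_sg hK, neg_sub]⟩
    rw [sub_eq_zero] at h
    rw [← h, ← pow_two] at hz1
    have h2 := Nat.le_of_dvd (by norm_num) (orderOf_dvd_of_pow_eq_one hz1)
    rw [hz] at h2
    have : 1 < Fintype.card F ^ a := Nat.one_lt_pow (by omega) Fintype.one_lt_card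
    omega
  let x : K ≃ₗ[F] K :=
    { toFun := fun v => z * v
      map_add' := fun v w => mul_add _ _ _
      map_smul' := fun c v => by rw [mul_smul_comm, RingHom.id_apply]
      invFun := fun v => z⁻¹ * v
      left_inv := fun v => inv_mul_cancel_left₀ hz0 v
      right_inv := fun v => mul_inv_cancel_left₀ hz0 v }
  have hx : ∀ v, x v = z * v := fun v => rfl
  refine ⟨K, inferInstance, inferInstance, inferInstance, fm F a l, x, fm_alt hK hl, fm_nondeg hl0, hK, ?_, ?_, ?_⟩
  · intro v w
    have h1 : sg F K a (z * w) = sg F K a z * sg F K a w := map_mul _ _ _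
    rw [hx, hx, fm_apply, fm_apply, h1]
    refine congrArg (Algebra.trace F K) ?_
    calc l * (z * v) * (sg F K a z * sg F K a w) = (z * sg F K a z) * (l * v * sg F K a w) := by ring
      _ = l * v * sg F K a w := by rw [hz1, one_mul]
  · refine ⟨?_, inv_top, fun X _ hX => ?_⟩
    · intro h
      have h1 : finrank F (⊤ : Submodule F K) = 0 := by rw [h, finrank_bot]
      rw [finrank_top] at h1
      omega
    · by_cases h0 : X = ⊥
      · exact Or.inl h0
      right
      obtain ⟨w, hw, hw0⟩ := (Submodule.ne_bot_iff _).1 h0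
      rw [eq_top_iff]
      intro y _
      have h1 : ∀ c ∈ Algebra.adjoin F {z}, ∀ v ∈ X, c * v ∈ X := by
        intro c hc
        induction hc using Algebra.adjoin_induction with
        | mem b hb =>
          rw [Set.mem_singleton_iff] at hb
          subst hb
          exact fun v hv => hX v hv
        | algebraMap t =>
          intro v hv
          rw [← Algebra.smul_def]
          exact X.smul_mem t hv
        | add b c _ _ ihb ihc =>
          intro v hv
          rw [add_mul]
          exact X.add_mem (ihb v hv) (ihc v hv)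
        | mul b c _ _ ihb ihc =>
          intro v hv
          rw [mul_assoc]
          exact ihb _ (ihc v hv)
      rw [adjoin_eq_top hK hz] at h1
      have h2 := h1 (y * w⁻¹) trivial w hw
      rwa [inv_mul_cancel_right₀ hw0] at h2
  · rw [← hz]
    apply orderOf_eq_orderOf_iff.2
    intro n
    have h1 : ∀ n : ℕ, ∀ v, (x ^ n) v = z ^ n * v := by
      intro n
      induction n with
      | zero => intro v; rw [pow_zero, pow_zero, one_mul]; rfl
      | succ n ih =>
        intro v
        rw [pow_succ, pow_succ, LinearEquiv.mul_apply, ih, hx, mul_assoc]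
    constructor
    · intro h
      have h2 := h1 n 1
      rw [h, mul_one] at h2
      exact h2.symm
    · intro h
      apply LinearEquiv.ext
      intro v
      rw [h1, h, one_mul]
      rfl

end Cfsg.Agent.H427.Sg
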