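import Cfsg.Agent.H427.Sg.Ext
import Cfsg.Agent.H262.ElSympMiss
import Cfsg.Agent.H262.ElSympPSp
import Cfsg.Agent.H884.ElFin
import Cfsg.Agent.H427.Fc.Sm

/-!
# The geometric overgroups of an element with two blocks, `q` even (helper427, S3938)

* `geo_two` : a geometric overgroup stabilises the large block or a quadratic form.
-/

set_option autoImplicit false
set_option linter.unusedSectionVars false

namespace Cfsg.Agent.H427.Sg

open Module Cfsg Cfsg.Geo Cfsg.Agent.H951 Cfsg.Agent.H427.Fc
open Cfsg.Agent.ClassicalGeometry.SympBasic Cfsg.Agent.H876 Cfsg.Agent.H931 Cfsg.Agent.H262.El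
open Cfsg.Agent.H884.El (PP exists_char one_lt_q)
open scoped Matrix MatrixGroups

universe u

variable {F : Type u} [Field F] [Fintype F] {m : ℕ}

theorem two_zero_of (h : ¬ Odd (Fintype.card F)) : (2 : F) = 0 := by
  rw [Nat.not_odd_iff_even] at h
  obtain ⟨n, hn⟩ := h
  have h1 : ((Fintype.card F : ℕ) : F) = 0 := FiniteField.cast_card_eq_zero F
  obtain ⟨p, hp⟩ := CharP.exists F
  have hpr : p.Prime := CharP.char_is_prime F p
  have h2 : p ∣ Fintype.card F := (CharP.cast_eq_zero_iff F p _).1 h1
  obtain ⟨k, hk, hcard⟩ := FiniteField.card F p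
  have h3 : 2 ∣ p ^ (k : ℕ) := by rw [← hcard, hn]; exact ⟨n, by ring⟩
  have h4 : 2 ∣ p := Nat.prime_two.dvd_of_dvd_pow h3
  have h5 : p = 2 := ((Nat.prime_dvd_prime_iff_eq Nat.prime_two hpr).1 h4).symm
  subst h5
  have := CharP.cast_eq_zero F 2
  exact_mod_cast this

theorem mem_stab {W : Submodule F (Fin m ⊕ Fin m → F)} {B : Matrix.symplecticGroup (Fin m) F}
    (h : spToGL m F B ∈ subspaceStabilizer W) : ∀ w ∈ W, rhoSp m F B w ∈ W := by
  intro w hw
  rw [rhoSp_apply]
  exact (Cfsg.Agent.H884.OmegaGL.mem_subspaceStabilizer.1 h) w hw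

/-- the orthogonal space of a stabilised block -/
theorem stab_symm {V : Type*} [AddCommGroup V] [Module F V] [FiniteDimensional F V] {x : Module.End F V}
    {W U : Submodule F V} {B : V → V → F} (hB : Sy B) (h : Two x W U) (hp : ∀ w ∈ W, ∀ u ∈ U, B w u = 0)
    {y : Module.End F V} (hy : ∀ v w, B (y v) (y w) = B v w) (hyU : Inv y U) : Inv y W := by
  -- `W` is the orthogonal space of `U`
  have hWperp : ∀ v, (∀ u ∈ U, B v u = 0) → v ∈ W := by
    intro v hv
    have h1 : v ∈ W ⊔ U := by rw [h.compl.sup_eq_top]; exact Submodule.mem_top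
    obtain ⟨w, hw, u, hu, rfl⟩ := Submodule.mem_sup.1 h1
    have h2 : u = 0 := by
      refine hB.nd _ fun z => ?_
      have h3 : z ∈ W ⊔ U := by rw [h.compl.sup_eq_top]; exact Submodule.mem_top
      obtain ⟨w', hw', u', hu', rfl⟩ := Submodule.mem_sup.1 h3
      have h4 := hv u' hu'
      rw [hB.add, hp w hw u' hu', zero_add] at h4
      rw [hB.add', h4, add_zero, hB.symm, hp w' hw' u hu]
    rw [h2, add_zero]
    exact hw
  -- `y` is injective on `U`, so `y U = U`
  have hyinj : Function.Injective y := by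
    intro a b hab
    have h1 : a - b = 0 := by
      refine hB.nd _ fun w => ?_
      rw [← hy, map_sub, hab, sub_self, hB.zero]
    exact sub_eq_zero.1 h1
  have hyU' : U.map y = U := by
    apply Submodule.eq_of_le_of_finrank_eq
    · rintro _ ⟨u, hu, rfl⟩
      exact hyU u hu
    · exact (Submodule.equivMapOfInjective y hyinj U).finrank_eq.symm
  intro w hw
  apply hWperp
  intro u hu
  rw [← hyU'] at hu
  obtain ⟨u', hu', rfl⟩ := hu
  rw [hy]
  exact hp w hw u' hu'

/-- the number of blocks -/
theorem decomp_card {ι : Type} [Fintype ι] [DecidableEq ι] {t k : ℕ} {D : Fin t → Submodule F (ι → F)}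
    (hD : IsMDecomposition k D) : t * k = Fintype.card ι := by
  classical
  have h1 : DirectSum.IsInternal D := (DirectSum.isInternal_submodule_iff_iSupIndep_and_iSup_eq_top D).2
    ⟨hD.indep, hD.iSup_eq_top⟩
  have h2 := Module.finrank_eq_card_basis
    (h1.collectedBasis fun i => Module.finBasisOfFinrankEq F (D i) (hD.finrank_eq i))
  rw [Module.finrank_fintype_fun_eq_card, Fintype.card_sigma] at h2
  rw [h2]
  simp

/-- **The geometric overgroups.** -/
theorem geo_two {a b : ℕ} (hab : a + b = m) (hb : 1 ≤ b) (hba : b < a) (hcop : Nat.Coprime a b)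
    (hexc : ¬ (Fintype.card F = 2 ∧ a = 3)) (heven : ¬ Odd (Fintype.card F))
    {s : Matrix.symplecticGroup (Fin m) F} {W U : Submodule F (Fin m ⊕ Fin m → F)} (h : El F m a b s W U)
    {H M : Subgroup (GL (Fin m ⊕ Fin m) F)} (hs : spToGL m F s ∈ H) (hM : InSymplecticClass m F M) (hHM : H ≤ M) :
    (∀ B : Matrix.symplecticGroup (Fin m) F, spToGL m F B ∈ H → Inv (rhoSp m F B) W) ∨
    (∃ Q : (Fin m ⊕ Fin m → F) → F, Qf (sympForm m F) Q ∧
      ∀ B : Matrix.symplecticGroup (Fin m) F, spToGL m F B ∈ H → ∀ v, Q (rhoSp m F B v) = Q v) := by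
  have h2 := two_zero_of heven
  have hsy := sy_symp (m := m) h2
  have hι : Fintype.card (Fin m ⊕ Fin m) = 2 * m := by simp [two_mul]
  have hne : Nonempty (Fin m ⊕ Fin m) := ⟨Sum.inl ⟨0, by omega⟩⟩
  have hfin : Finite (GL (Fin m ⊕ Fin m) F) := inferInstance
  obtain ⟨p, f, r, hp, hf, hpF, hpr, hqr, hrd⟩ := exists_prim F (a := a) (by omega) hexc
  have hrH : r ∣ Nat.card H := by
    have h1 : orderOf (spToGL m F s) ∣ Nat.card H := by
      rw [← Subgroup.orderOf_mk _ hs]
      exact orderOf_dvd_natCard _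
    rw [orderOf_injective _ spToGL_injective] at h1
    exact hrd.trans (h.oa.trans h1)
  have hrlt := hqr.lt (by omega)
  have hodd : Nat.Coprime ((Fintype.card F ^ a + 1) * (Fintype.card F ^ b + 1)) 2 := by
    rw [Nat.not_odd_iff_even] at heven
    rw [Nat.coprime_two_right]
    exact ((heven.pow_of_ne_zero (by omega)).add_odd odd_one).mul ((heven.pow_of_ne_zero (by omega)).add_odd odd_one)
  -- stabilisers of subspaces
  have hstab : ∀ W' : Submodule F (Fin m ⊕ Fin m → F), W' ≠ ⊥ → W' ≠ ⊤ → H ≤ subspaceStabilizer W' →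
      (∀ B : Matrix.symplecticGroup (Fin m) F, spToGL m F B ∈ H → Inv (rhoSp m F B) W) := by
    intro W' h0 h1 hle B hBH
    have h3 : Inv (rhoSp m F s) W' := mem_stab (hle hs)
    have h4 : Inv (rhoSp m F B) W' := mem_stab (hle hBH)
    rcases h.two.cases h3 with h5 | h5 | h5 | h5
    · exact absurd h5 h0
    · rwa [h5] at h4
    · rw [h5] at h4
      exact stab_symm hsy h.two h.perp (rp_symp.iso B) h4
    · exact absurd h5 h1
  rcases hM with hM | hM | hM | hM | hM
  · rcases hM with hM | hM | hM | hM | hM | hM | hM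
    · obtain ⟨W', hW0, hW, rfl⟩ := hM
      exact Or.inl (hstab W' hW0 (totallySingular_ne_top (by omega) hW) (hHM.trans inf_le_left))
    · obtain ⟨W', hW0, hW, hW2, rfl⟩ := hM
      refine Or.inl (hstab W' hW0 ?_ (hHM.trans inf_le_left))
      rintro rfl
      rw [finrank_top, Module.finrank_fintype_fun_eq_card, hι] at hW2
      omega
    · obtain ⟨t, k, D, hD, rfl⟩ := hM
      exfalso
      have h3 := decomp_card hD.decomp
      rw [hι] at h3
      have ht := hD.decomp.two_le
      have hk := hD.decomp.pos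
      have hk2 : 2 ≤ k := by
        by_contra hcon
        have hk1 : k = 1 := by omega
        have h4 := hD.decomp.finrank_eq ⟨0, by omega⟩
        rw [hk1] at h4
        obtain ⟨u, hu0, hu⟩ := finrank_eq_one_iff'.1 h4
        obtain ⟨⟨x, hx, hx2⟩, -⟩ := hD.nondegenerate ⟨0, by omega⟩ u.1 u.2 (fun h5 => hu0 (Subtype.ext h5))
        obtain ⟨c, hc⟩ := hu ⟨x, hx⟩
        apply hx2
        have h5 : x = c • u.1 := (congrArg Subtype.val hc).symm
        rw [h5, hsy.smul, hsy.alt, mul_zero]
      have h4 : 2 * k ≤ t * k := Nat.mul_le_mul_right _ ht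
      have h5 : t * 2 ≤ t * k := Nat.mul_le_mul_left _ hk2
      have h6 := H884.El.decomp_le hD.decomp (hHM.trans inf_le_left) hqr (by omega) hrH
      omega
    · obtain ⟨D, h3, -⟩ := hM
      exact absurd h3 heven
    · obtain ⟨F₀, s', P, ζ, hs', hcard, -, -, rfl⟩ := hM
      exfalso
      exact H884.El.kill_subfield (hHM.trans inf_le_left) hs' (by rw [Nat.card_eq_fintype_card]; exact hcard) hp hpF hpr
        (by rw [hι]; omega) (by omega) hrH
    · obtain ⟨R, p', k, -, -, -, hp', hodd', hFp, -⟩ := hM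
      exfalso
      rw [hFp] at heven
      exact heven hodd'
    · obtain ⟨Q, -, hQ, hpol, rfl⟩ := hM
      right
      have hHQ : H ≤ isometryGroup F Q := fun g hg => mem_isometry (by omega) hpol (hHM hg).1 (hHM hg).2
      obtain ⟨Q', hQ', -⟩ := Cfsg.Agent.H883.Bridge.exists_quadraticForm hQ
      refine ⟨⇑Q', qf_of fun u v => ?_, fun B hBH v => ?_⟩
      · rw [hQ']
        exact hpol u v
      · rw [hQ', rhoSp_apply]
        exact (ClassicalGeometry.Reflection.mem_isometryGroup_iff _ _).1 (hHQ hBH) v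
  · obtain ⟨s', K, hs', hK, hsa, -, rfl⟩ := hM
    exfalso
    have hHK : H ≤ subalgebraNormalizer K := hHM.trans inf_le_left
    have hsn : s' ∣ 2 * m := by
      let _ : Field K := (H912.isField_of_fieldSub hK).toField
      have h5 := Module.finrank_mul_finrank F K (Fin m ⊕ Fin m → F)
      rw [hK.finrank_eq, Module.finrank_fintype_fun_eq_card, hι] at h5
      exact Dvd.intro _ h5
    have hs2 : s' = 2 := by
      rcases H884.El.ext_cases hs' hK hHK (by rw [hι]; exact hsn) hqr (by rw [hι]; omega) hrH with h3 | h3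
      · exfalso
        subst h3
        obtain ⟨c, hc⟩ := hsn
        have hc1 : c = 1 := by
          have h4 : c < 2 := by
            by_contra hcon
            push Not at hcon
            have := Nat.mul_le_mul_left r hcon
            omega
          have h5 : c ≠ 0 := by
            rintro rfl
            omega
          omega
        rw [hc1, mul_one] at hc
        have h4 : r = 2 := ((Nat.prime_dvd_prime_iff_eq Nat.prime_two hs').1 (by rw [← hc]; exact Dvd.intro _ rfl)).symm
        omega
      · by_contra hcon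
        have h4 : Nat.Coprime s' 2 := (Nat.coprime_primes hs' Nat.prime_two).2 hcon
        have h5 : s' ∣ a := h4.dvd_of_dvd_mul_left h3
        have h6 : s' ∣ m := h4.dvd_of_dvd_mul_left hsn
        have h7 : s' ∣ b := by
          rw [← hab] at h6
          exact (Nat.dvd_add_right h5).1 h6
        have h8 := Nat.dvd_gcd h5 h7
        rw [hcop] at h8
        exact hs'.one_lt.ne' (Nat.dvd_one.1 h8)
    subst hs2
    have hcomm := comm_field' hK (hHK hs) hodd (by rw [← map_pow, h.ord, map_one])
    exact no_field h2 hb hba hcop h hK hsa hcomm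
  · obtain ⟨K, h3, -⟩ := hM
    exact absurd h3 heven
  · obtain ⟨n₁, n₂, e, P, f₁, f₂, h3, -⟩ := hM
    exact absurd h3 heven
  · obtain ⟨k, t, e, P, f₁, h3, -⟩ := hM
    exact absurd h3 heven

end Cfsg.Agent.H427.Sg
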