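import Cfsg.Agent.H427.Sg.Pair
import Cfsg.Agent.H427.Sg.Sing
import Cfsg.Agent.H109.Cov.Res
import Cfsg.Agent.Lib.Zsigmondy

/-!
# `PSp₂ₘ(q)`: the orders of the residual overgroups (helper427, S3938)

* `ord_dvd`     : the order of the element divides `2 |Aut T|`;
* `card_aut_dvd` : `|Aut T|` divides `|T| · |Out T|`.
-/

set_option autoImplicit false

namespace Cfsg.Agent.H427.Sg

open Module Cfsg Cfsg.Geo Cfsg.Agent.H951 Cfsg.Agent.H427.Fc Cfsg.Agent.H424.Spr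
open Cfsg.Agent.ClassicalGeometry.SympBasic Cfsg.Agent.H876 Cfsg.Agent.H931 Cfsg.Agent.H262.El
open scoped Matrix MatrixGroups Pointwise

universe u

variable {F : Type u} [Field F] {m : ℕ}

/-- the preimage of a maximal subgroup is maximal -/
theorem isMaximalIn_pre {R : Subgroup (PSp m F)} (hR : IsCoatom R) : IsMaximalIn (spGL m F) (pre R) := by
  refine ⟨lt_of_le_of_ne (pre_le R) (pre_ne hR.1), fun M h1 h2 => ?_⟩
  let R' : Subgroup (PSp m F) :=
    (M.comap (spToGL m F)).map (QuotientGroup.mk' (Subgroup.center (Matrix.symplecticGroup (Fin m) F)))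
  have hM : M = pre R' := by
    apply le_antisymm
    · intro x hx
      obtain ⟨A, rfl⟩ := exists_spToGL (h2 hx)
      rw [mem_pre]
      exact ⟨A, hx, rfl⟩
    · intro x hx
      obtain ⟨A, rfl⟩ := exists_spToGL (pre_le R' hx)
      rw [mem_pre] at hx
      obtain ⟨B, hB, hBA⟩ := hx
      have h3 : B⁻¹ * A ∈ Subgroup.center (Matrix.symplecticGroup (Fin m) F) := QuotientGroup.eq.1 hBA
      have h4 : spToGL m F (B⁻¹ * A) ∈ pre R := by
        rw [mem_pre, (QuotientGroup.eq_one_iff _).2 h3]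
        exact R.one_mem
      have h5 := M.mul_mem hB (h1 h4)
      rwa [← map_mul, mul_inv_cancel_left] at h5
  have h3 : R ≤ R' := by
    intro x hx
    obtain ⟨A, rfl⟩ := QuotientGroup.mk_surjective x
    exact ⟨A, h1 (mem_pre.2 hx), rfl⟩
  rcases eq_or_lt_of_le h3 with h | h
  · left
    rw [hM, ← h]
  · right
    have htop : R' = ⊤ := hR.2 _ h
    apply le_antisymm h2
    intro x hx
    obtain ⟨A, rfl⟩ := exists_spToGL hx
    rw [hM, mem_pre, htop]
    trivial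

variable [Fintype F]

theorem ord_dvd (hm : 1 ≤ m) {s : Matrix.symplecticGroup (Fin m) F} {K : Subgroup (PSp m F)}
    (hsK : (QuotientGroup.mk s : PSp m F) ∈ K) {P : Subgroup (GL (Fin m ⊕ Fin m) F)} (hc : IsResidualCore (pre K) P) :
    orderOf s ∣ 2 * Nat.card (MulAut (P ⧸ (scalars (Fin m ⊕ Fin m) F).subgroupOf P)) := by
  refine dvd_trans ?_ (H109.Cov.card_dvd hm (pre_le K) hc)
  have h2 : spToGL m F s ∈ pre K := mem_pre.2 hsK
  rw [← orderOf_injective _ spToGL_injective s]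
  exact Subgroup.orderOf_dvd_natCard _ h2

theorem card_aut_dvd (T : Type*) [Group T] : Nat.card (MulAut T) ∣ Nat.card T * Nat.card (Out T) := by
  rw [← Subgroup.card_mul_index (Inn T)]
  exact Nat.mul_dvd_mul (Subgroup.card_range_dvd _) dvd_rfl

theorem exists_pow_two (h2 : (2 : F) = 0) : ∃ f, 1 ≤ f ∧ Fintype.card F = 2 ^ f := by
  have hch : CharP F 2 := CharTwo.of_one_ne_zero_of_two_eq_zero one_ne_zero h2
  obtain ⟨n, -, hn⟩ := FiniteField.card F 2
  exact ⟨n, n.2, hn⟩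

/-- a prime divisor of `q² + 1`, `q = 2 ^ f`, of exponent `4 f` -/
theorem exists_four {f : ℕ} (hf : 1 ≤ f) : ∃ u : ℕ, u.Prime ∧ (∀ m, u ∣ 2 ^ m - 1 ↔ 4 * f ∣ m) ∧ 4 * f < u ∧ ¬ u ∣ 2 ∧
    u ∣ (2 ^ f) ^ 2 + 1 := by
  obtain ⟨u, hu, hiff, hs, h2⟩ := Lib.Zsigmondy.exists_primitive (a := 2) (n := 4 * f) le_rfl (by omega) (by omega)
    (by omega)
  refine ⟨u, hu, hiff, ?_, h2, ?_⟩
  · have := Nat.le_of_dvd (by have := hu.two_le; omega) hs
    omega
  · have h3 : u ∣ 2 ^ (4 * f) - 1 := (hiff _).2 dvd_rfl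
    have h4 : 2 ^ (4 * f) - 1 = ((2 ^ f) ^ 2 + 1) * (2 ^ (2 * f) - 1) := by
      have h5 : 2 ^ (4 * f) = (2 ^ (2 * f)) ^ 2 := by rw [← pow_mul]; congr 1; ring
      have h6 : (2 ^ f) ^ 2 = 2 ^ (2 * f) := by rw [← pow_mul]; congr 1; ring
      rw [h5, h6]
      have h7 : 1 ≤ 2 ^ (2 * f) := Nat.one_le_two_pow
      generalize 2 ^ (2 * f) = x at *
      obtain ⟨y, rfl⟩ : ∃ y, x = y + 1 := ⟨x - 1, by omega⟩
      rw [Nat.add_sub_cancel]
      have : (y + 1) ^ 2 = (y + 1 + 1) * y + 1 := by ring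
      omega
    rw [h4] at h3
    rcases hu.dvd_mul.1 h3 with h8 | h8
    · exact h8
    · exfalso
      have := Nat.le_of_dvd (by omega) ((hiff _).1 h8)
      omega

end Cfsg.Agent.H427.Sg
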