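import Cfsg.Agent.H427.Sg.Refl
import Cfsg.Agent.H427.Sg.Res
import Cfsg.Agent.H659.CovForms

/-!
# Overgroups of `Ω(Q)` in the symplectic group, `q` even (helper427, S3938)

* `RR a c`       : the transvection as a matrix;
* `omega_mem`    : `Ω(Q)` contains the products of two reflections;
* `polar_prop`   : a group of isometries of `B` containing `Ω(Q)`: `B` is a multiple of the polar form;
* `omega_fixes`  : a maximal subgroup of `Sp` containing `Ω(Q)` fixes a quadratic form.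
-/

set_option autoImplicit false
set_option linter.unusedSectionVars false

namespace Cfsg.Agent.H427.Sg

open Module Cfsg Cfsg.Geo Cfsg.Agent.H951 Cfsg.Agent.H427.Fc
open Cfsg.Agent.ClassicalGeometry.SympBasic Cfsg.Agent.H876 Cfsg.Agent.H931 Cfsg.Agent.H262.El
open Cfsg.Agent.H659.CovForms (polar_self polar_comm' quad_add)
open scoped Matrix MatrixGroups commutatorElement

universe u

section mat

variable {F : Type u} [Field F] {ι : Type} [Fintype ι] [DecidableEq ι] {Q : (ι → F) → F}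

theorem sy_polar (h2 : (2 : F) = 0) (hQ : IsNondegenerateQuadraticForm Q) : Sy (QuadraticMap.polar Q) where
  two := h2
  add := hQ.polar_bilinear.add_left
  smul := hQ.polar_bilinear.smul_left
  symm := polar_comm'
  alt := fun v => by rw [polar_self hQ, h2, zero_mul]
  nd := fun v h => by
    by_contra hv
    obtain ⟨x, hx⟩ := (hQ.nondegenerate v hv).2
    exact hx (h x)

theorem qf_polar (hQ : IsNondegenerateQuadraticForm Q) : Qf (QuadraticMap.polar Q) Q where
  smul := fun c v => by rw [hQ.smul]; ring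
  polar := fun v w => quad_add Q v w

/-- the transvection as a matrix -/
noncomputable def RR {B : (ι → F) → (ι → F) → F} (hB : Sy B) (a : ι → F) (c : F) : GL ι F :=
  ⟨LinearMap.toMatrix' (hB.tv a c).toLinearMap, LinearMap.toMatrix' (hB.tv a c).toLinearMap, by
    rw [← LinearMap.toMatrix'_mul, ← LinearMap.toMatrix'_one]
    congr 1
    apply LinearMap.ext
    intro v
    exact (hB.tv a c).left_inv v, by
    rw [← LinearMap.toMatrix'_mul, ← LinearMap.toMatrix'_one]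
    congr 1
    apply LinearMap.ext
    intro v
    exact (hB.tv a c).left_inv v⟩

theorem RR_mulVec {B : (ι → F) → (ι → F) → F} (hB : Sy B) (a : ι → F) (c : F) (v : ι → F) :
    (RR hB a c).1 *ᵥ v = hB.tv a c v := LinearMap.toMatrix'_mulVec _ _

theorem gl_ext {g h : GL ι F} (H : ∀ v, g.1 *ᵥ v = h.1 *ᵥ v) : g = h := by
  apply Units.ext
  apply Matrix.toLin'.injective
  apply LinearMap.ext
  intro v
  rw [Matrix.toLin'_apply, Matrix.toLin'_apply]
  exact H v

theorem gl_mulVec (g h : GL ι F) (v : ι → F) : (g * h).1 *ᵥ v = g.1 *ᵥ (h.1 *ᵥ v) := by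
  rw [Units.val_mul, Matrix.mulVec_mulVec]

theorem gl_inv_mulVec (g : GL ι F) (v : ι → F) : g.1 *ᵥ (g⁻¹.1 *ᵥ v) = v := by
  rw [← gl_mulVec, mul_inv_cancel, Units.val_one, Matrix.one_mulVec]

theorem RR_inv {B : (ι → F) → (ι → F) → F} (hB : Sy B) (a : ι → F) (c : F) : (RR hB a c)⁻¹ = RR hB a c := by
  refine inv_eq_of_mul_eq_one_right (gl_ext fun v => ?_)
  rw [gl_mulVec, RR_mulVec, RR_mulVec, Units.val_one, Matrix.one_mulVec]
  exact (hB.tv a c).left_inv v

theorem RR_conj {B : (ι → F) → (ι → F) → F} (hB : Sy B) {g : GL ι F} (hg : ∀ v w, B (g.1 *ᵥ v) (g.1 *ᵥ w) = B v w)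
    (a : ι → F) (c : F) : g * RR hB a c * g⁻¹ = RR hB (g.1 *ᵥ a) c := by
  apply gl_ext
  intro v
  rw [gl_mulVec, gl_mulVec, RR_mulVec, RR_mulVec, hB.tv_apply, hB.tv_apply, Matrix.mulVec_add, Matrix.mulVec_smul,
    gl_inv_mulVec]
  have h1 : B (g⁻¹.1 *ᵥ v) a = B v (g.1 *ᵥ a) := by
    rw [← hg, gl_inv_mulVec]
  rw [h1]

theorem RR_smul {B : (ι → F) → (ι → F) → F} (hB : Sy B) (a : ι → F) (l c : F) :
    RR hB (l • a) c = RR hB a (l * l * c) := by
  apply gl_ext
  intro v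
  rw [RR_mulVec, RR_mulVec, hB.tv_apply, hB.tv_apply, hB.smul', smul_smul]
  congr 2
  ring

variable [Finite F]

/-- **`Ω(Q)` contains the products of two reflections** -/
theorem omega_mem (h2 : (2 : F) = 0) (hQ : IsNondegenerateQuadraticForm Q) (hn : 7 ≤ Fintype.card ι) {a b : ι → F}
    (ha : Q a ≠ 0) (hb : Q b ≠ 0) :
    RR (sy_polar h2 hQ) a (Q a)⁻¹ * RR (sy_polar h2 hQ) b (Q b)⁻¹ ∈ omegaGL Q := by
  have hB := sy_polar h2 hQ
  have hq := qf_polar hQ
  have hn' : 7 ≤ finrank F (ι → F) := by rwa [Module.finrank_fintype_fun_eq_card]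
  obtain ⟨s, hs⟩ := exists_sqrt (F := F) h2
  have hnorm : ∀ a : ι → F, Q a ≠ 0 → ∃ a' : ι → F, Q a' = 1 ∧ RR hB a (Q a)⁻¹ = RR hB a' 1 := by
    intro a ha
    refine ⟨s (Q a)⁻¹ • a, ?_, ?_⟩
    · rw [hq.smul, hs, inv_mul_cancel₀ ha]
    · rw [RR_smul, hs, mul_one]
  obtain ⟨a', ha', hae⟩ := hnorm a ha
  obtain ⟨b', hb', hbe⟩ := hnorm b hb
  have hiso : ∀ a : ι → F, Q a ≠ 0 → RR hB a (Q a)⁻¹ ∈ isometryGroup F Q := by
    intro a ha v _
    change Q ((RR hB a (Q a)⁻¹).1 *ᵥ v) = Q v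
    rw [RR_mulVec]
    exact qf_refl hB hq ha v
  have ha0 : a' ≠ 0 := by
    rintro rfl
    rw [hq.zero] at ha'
    exact zero_ne_one ha'
  have hb0 : b' ≠ 0 := by
    rintro rfl
    rw [hq.zero] at hb'
    exact zero_ne_one hb'
  obtain ⟨z, hz, h3, h4⟩ := exists_mid hB hq hn' ha0 hb0 1
  obtain ⟨h5, h6⟩ := tv_swap hB hq (ha'.trans hz.symm) h3
  obtain ⟨h7, h8⟩ := tv_swap hB hq (hz.trans hb'.symm) (by rw [hB.symm]; exact h4)
  set g := RR hB (z + b') (Q (z + b'))⁻¹ * RR hB (a' + z) (Q (a' + z))⁻¹ with hg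
  have hgm : g ∈ isometryGroup F Q := (isometryGroup F Q).mul_mem (hiso _ h7) (hiso _ h5)
  have hga : g.1 *ᵥ a' = b' := by
    rw [hg, gl_mulVec, RR_mulVec, RR_mulVec, h6, h8]
  have hgB : ∀ v w, QuadraticMap.polar Q (g.1 *ᵥ v) (g.1 *ᵥ w) = QuadraticMap.polar Q v w := by
    intro v w
    have e : ∀ v, Q (g.1 *ᵥ v) = Q v := fun v => hgm v v
    rw [QuadraticMap.polar, QuadraticMap.polar, ← Matrix.mulVec_add, e, e, e]
  have h9 := RR_conj hB hgB a' 1
  rw [hga] at h9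
  have ham : RR hB a' 1 ∈ isometryGroup F Q := by
    have := hiso a' (by rw [ha']; exact one_ne_zero)
    rwa [ha', inv_one] at this
  rw [hae, hbe, ← h9, H659.CovCore.omegaGL_eq]
  have h10 : RR hB a' 1 * (g * RR hB a' 1 * g⁻¹) = ⁅RR hB a' 1, g⁆ := by
    rw [commutatorElement_def, RR_inv]
    group
  rw [h10]
  exact Subgroup.commutator_mem_commutator ham hgm

/-- **`B` is a multiple of the polar form** -/
theorem polar_prop (h2 : (2 : F) = 0) (hQ : IsNondegenerateQuadraticForm Q) (hn : 7 ≤ Fintype.card ι)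
    {B : (ι → F) → (ι → F) → F} (hB : Sy B) {H : Subgroup (GL ι F)} (hΩ : omegaGL Q ≤ H)
    (hH : ∀ g ∈ H, ∀ v w, B (g.1 *ᵥ v) (g.1 *ᵥ w) = B v w) :
    ∃ κ : F, κ ≠ 0 ∧ ∀ v w, B v w = κ * QuadraticMap.polar Q v w := by
  have hB' := sy_polar h2 hQ
  have hq := qf_polar hQ
  have hn' : 7 ≤ finrank F (ι → F) := by rwa [Module.finrank_fintype_fun_eq_card]
  -- orthogonality
  have hperp : ∀ a x, Q a ≠ 0 → QuadraticMap.polar Q a x = 0 → B a x = 0 := by
    intro a x ha hax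
    have ha0 : a ≠ 0 := by
      rintro rfl
      exact ha hq.zero
    obtain ⟨v, hv⟩ := exists_pair hB' ha0
    obtain ⟨b, hbx, hbv, -, hb⟩ := exists_ns3 hB' hq hn' x v v
    have h3 := hH _ (hΩ (omega_mem h2 hQ hn ha hb)) v x
    have h4 : (RR hB' a (Q a)⁻¹ * RR hB' b (Q b)⁻¹).1 *ᵥ x = x := by
      rw [gl_mulVec, RR_mulVec, RR_mulVec, hB'.tv_apply b, hB'.symm x b, hbx, mul_zero, zero_smul, add_zero,
        hB'.tv_apply, hB'.symm x a, hax, mul_zero, zero_smul, add_zero]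
    have h5 : (RR hB' a (Q a)⁻¹ * RR hB' b (Q b)⁻¹).1 *ᵥ v = v + ((Q a)⁻¹ * QuadraticMap.polar Q v a) • a := by
      rw [gl_mulVec, RR_mulVec, RR_mulVec, hB'.tv_apply b _ v, hB'.symm v b, hbv, mul_zero, zero_smul, add_zero,
        hB'.tv_apply]
    rw [h4, h5, hB.add, hB.smul] at h3
    have h6 : (Q a)⁻¹ * QuadraticMap.polar Q v a * B a x = 0 := by linear_combination h3
    rcases mul_eq_zero.1 h6 with h7 | h7
    · rcases mul_eq_zero.1 h7 with h8 | h8
      · exact absurd h8 (inv_ne_zero ha)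
      · rw [hB'.symm] at h8
        exact absurd h8 hv
    · exact h7
  -- proportionality for a non-singular vector
  have hprop : ∀ a, Q a ≠ 0 → ∃ κ : F, ∀ x, B a x = κ * QuadraticMap.polar Q a x := by
    intro a ha
    have ha0 : a ≠ 0 := by
      rintro rfl
      exact ha hq.zero
    obtain ⟨v, hv⟩ := exists_pair hB' ha0
    refine ⟨B a v * (QuadraticMap.polar Q a v)⁻¹, fun x => ?_⟩
    have h3 : QuadraticMap.polar Q a (x + (QuadraticMap.polar Q a x * (QuadraticMap.polar Q a v)⁻¹) • v) = 0 := by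
      rw [hB'.add', hB'.smul', mul_assoc, inv_mul_cancel₀ hv, mul_one]
      exact add_self h2 _
    have h4 := hperp a _ ha h3
    rw [hB.add', hB.smul'] at h4
    linear_combination h4 - (QuadraticMap.polar Q a x * (QuadraticMap.polar Q a v)⁻¹ * B a v) * h2
  obtain ⟨a₀, -, -, -, ha₀⟩ := exists_ns3 hB' hq hn' 0 0 0
  obtain ⟨κ, hκ⟩ := hprop a₀ ha₀
  have hne : ∀ a, Q a ≠ 0 → a ≠ 0 := by
    rintro _ ha rfl
    exact ha hq.zero
  -- the factor is constant
  have hsame : ∀ a b, Q a ≠ 0 → Q b ≠ 0 → QuadraticMap.polar Q a b ≠ 0 →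
      (∀ x, B a x = κ * QuadraticMap.polar Q a x) → ∀ x, B b x = κ * QuadraticMap.polar Q b x := by
    intro a b ha hb hab h3 x
    obtain ⟨κ', hκ'⟩ := hprop b hb
    have h4 : κ' = κ := by
      have h5 := h3 b
      have h6 := hκ' a
      rw [hB.symm b a, hB'.symm b a, h5] at h6
      exact (mul_right_cancel₀ hab h6).symm
    rw [hκ', h4]
  have hall : ∀ b, Q b ≠ 0 → ∀ x, B b x = κ * QuadraticMap.polar Q b x := by
    intro b hb
    obtain ⟨z, hz, h3, h4⟩ := exists_mid hB' hq hn' (hne a₀ ha₀) (hne b hb) (Q a₀)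
    have hz0 : Q z ≠ 0 := by rw [hz]; exact ha₀
    exact hsame z b hz0 hb (by rw [hB'.symm]; exact h4) (hsame a₀ z ha₀ hz0 h3 hκ)
  have hfin : ∀ v w, B v w = κ * QuadraticMap.polar Q v w := by
    intro v w
    by_cases hv : Q v = 0
    · obtain ⟨u, huv, -, -, hu⟩ := exists_ns3 hB' hq hn' v v v
      have h3 : Q (v + u) ≠ 0 := by
        rw [hq.polar, hv, hB'.symm v u, huv, zero_add, add_zero]
        exact hu
      have h4 := hall _ h3 w
      have h5 := hall _ hu w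
      rw [hB.add, hB'.add] at h4
      linear_combination h4 - h5
    · exact hall v hv w
  refine ⟨κ, ?_, hfin⟩
  rintro rfl
  apply hne a₀ ha₀
  exact hB.nd _ fun w => by rw [hfin, zero_mul]

end mat

section sp

variable {F : Type u} [Field F] [Fintype F] {m : ℕ}

/-- **a maximal subgroup which contains `Ω(Q)` fixes a quadratic form** -/
theorem omega_fixes [IsSimpleGroup (PSp m F)] (heven : ¬ Odd (Fintype.card F)) (hm : 4 ≤ m)
    {Q : (Fin m ⊕ Fin m → F) → F} (hQ : IsNondegenerateQuadraticForm Q) {K : Subgroup (PSp m F)} (hK : K ≠ ⊤)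
    (hΩ : omegaGL Q ≤ pre K) :
    ∃ Q₁ : (Fin m ⊕ Fin m → F) → F, IsNondegenerateQuadraticForm Q₁ ∧ Qf (sympForm m F) Q₁ ∧
      ∀ g ∈ pre K, ∀ v, Q₁ (g.1 *ᵥ v) = Q₁ v := by
  have h2 := two_zero_of heven
  have hB := sy_symp (m := m) h2
  have hR := rp_symp (F := F) (m := m)
  have hι : Fintype.card (Fin m ⊕ Fin m) = 2 * m := by simp [two_mul]
  have hn : 7 ≤ Fintype.card (Fin m ⊕ Fin m) := by omega
  have hn' : 7 ≤ finrank F (Fin m ⊕ Fin m → F) := by rwa [Module.finrank_fintype_fun_eq_card]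
  have hev : Even (Fintype.card F) := Nat.not_odd_iff_even.1 heven
  let e := spmEquiv (F := F) (m := m) (by omega) hev
  have hs : IsSimpleGroup (Matrix.symplecticGroup (Fin m) F) := e.symm.isSimpleGroup_congr.1 inferInstance
  have hg : ∀ g ∈ pre K, ∀ v w, sympForm m F (g.1 *ᵥ v) (g.1 *ᵥ w) = sympForm m F v w := fun g h => pre_le K h
  obtain ⟨κ, hκ, hpol⟩ := polar_prop h2 hQ hn hB hΩ hg
  have hQ₁ : Qf (sympForm m F) fun v => κ * Q v :=
    { smul := fun c v => by rw [hQ.smul]; ring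
      polar := fun v w => by rw [hpol, quad_add Q]; ring }
  have hpol' : ∀ v w, QuadraticMap.polar (fun v => κ * Q v) v w = sympForm m F v w := by
    intro v w
    rw [QuadraticMap.polar, hQ₁.polar]
    ring
  have hQ₁' : IsNondegenerateQuadraticForm fun v : Fin m ⊕ Fin m → F => κ * Q v := by
    refine ⟨fun c v => by rw [hQ.smul]; ring, ⟨?_, ?_, ?_, ?_⟩, ?_⟩
    · intro x y v; rw [hpol', hpol', hpol', hB.add]
    · intro c x v; rw [hpol', hpol', hB.smul]
    · intro v x y; rw [hpol', hpol', hpol', hB.add']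
    · intro c v x; rw [hpol', hpol', hB.smul']
    · intro v hv
      obtain ⟨x, hx⟩ := exists_pair hB hv
      exact ⟨⟨x, by rw [hpol', hB.symm]; exact hx⟩, ⟨x, by rw [hpol']; exact hx⟩⟩
  refine ⟨fun v => κ * Q v, hQ₁', hQ₁, ?_⟩
  by_contra hcon
  push Not at hcon
  obtain ⟨g, hgK, x, hx⟩ := hcon
  obtain ⟨h, rfl⟩ := exists_spToGL (pre_le K hgK)
  apply hK
  let K₀ : Subgroup (Matrix.symplecticGroup (Fin m) F) := (pre K).comap (spToGL m F)
  have htop : K₀ = ⊤ := by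
    refine top_of_refl hB hR rhoSp_inj hn' hQ₁ (K := K₀) ?_ (h := h) hgK (x := x) ?_
    · intro a b ha hb
      change spToGL m F (tt hB hR a (κ * Q a)⁻¹ * tt hB hR b (κ * Q b)⁻¹) ∈ pre K
      have ha' : Q a ≠ 0 := fun h3 => ha (by rw [h3, mul_zero])
      have hb' : Q b ≠ 0 := fun h3 => hb (by rw [h3, mul_zero])
      have key : ∀ a, Q a ≠ 0 → spToGL m F (tt hB hR a (κ * Q a)⁻¹) = RR (sy_polar h2 hQ) a (Q a)⁻¹ := by
        intro a ha
        apply gl_ext
        intro v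
        have h3 : (spToGL m F (tt hB hR a (κ * Q a)⁻¹)).1 *ᵥ v = rhoSp m F (tt hB hR a (κ * Q a)⁻¹) v := by
          rw [rhoSp_apply]
          rfl
        rw [h3, tt_apply, RR_mulVec, (sy_polar h2 hQ).tv_apply, hpol]
        congr 2
        rw [mul_inv, mul_comm κ⁻¹, mul_assoc, inv_mul_cancel_left₀ hκ]
      rw [map_mul, key a ha', key b hb']
      exact hΩ (omega_mem h2 hQ hn ha' hb')
    · rw [rhoSp_apply]
      exact hx
  rw [eq_top_iff]
  intro y _
  obtain ⟨A, rfl⟩ := QuotientGroup.mk_surjective y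
  have h3 : A ∈ K₀ := by rw [htop]; trivial
  exact mem_pre.1 h3

end sp

end Cfsg.Agent.H427.Sg
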