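import Cfsg.Agent.H427.Sg.RowEven
import Cfsg.Agent.H688.Sp4.OddAll
import Cfsg.Agent.H458.Spr.PSp6Final
import Cfsg.Agent.H842.Spr.PSp8
import Cfsg.Agent.H791.Spr.Sp
import Cfsg.Agent.H824.Sp2.Dat

/-!
# S3938 (3/2-generation): all the groups `PSp₂ₘ(q)`

* `spr_psp` : the row (`S5948` enters as a hypothesis)
-/

set_option autoImplicit false

namespace Cfsg.Agent.H427.Sg

open Cfsg Cfsg.Agent.H424.Spr

/-- **the row `PSp₂ₘ(q)`** -/
theorem spr_psp (hP : H659.CovCore.S5948Stmt.{0}) {m : ℕ} {F : Type} [Field F] [Fintype F] (hm : 2 ≤ m)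
    (h22 : m = 2 → 3 ≤ Fintype.card F) : Spr (PSp m F) := by
  by_cases hodd : Odd (Fintype.card F)
  · by_cases h5 : 5 ≤ m
    · exact H791.Spr.spr_psp10 hP h5 hodd
    have hcases : m = 2 ∨ m = 3 ∨ m = 4 := by omega
    rcases hcases with rfl | rfl | rfl
    · exact H688.Sp4.spr_psp4_odd hodd
    · exact H458.Spr6.spr_psp3 hodd
    · exact H842.Spr.spr_psp_four hodd
  · by_cases h42 : m = 4 ∧ Fintype.card F = 2
    · obtain ⟨rfl, h2⟩ := h42
      exact H824.Sp2.spr_psp_four h2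
    by_cases h62 : m = 6 ∧ Fintype.card F = 2
    · obtain ⟨rfl, h2⟩ := h62
      exact H824.Sp2.spr_psp_six h2
    exact spr_psp_even hP hm h22 hodd h42 h62

end Cfsg.Agent.H427.Sg
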