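import Cfsg.Agent.H427.Sg.Geo

/-!
# Overgroups of `Ω(Q)` in the symplectic group, `q` even: the transvections (helper427, S3938)

* `exists_ns3`, `exists_mid`, `exists_norm` : non-singular vectors;
* `tt w c`      : the transvection as an element of the group;
* `top_of_refl` : a subgroup which contains the products of two reflections of `Q` and does not fix `Q` is everything.
-/

set_option autoImplicit false
set_option linter.unusedSectionVars false

namespace Cfsg.Agent.H427.Sg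

open Module Cfsg.Agent.H427.Fc

section vec

variable {F V : Type*} [Field F] [AddCommGroup V] [Module F V] [FiniteDimensional F V] [Finite F] {B : V → V → F}
  {Q : V → F}

/-- a subspace of more than half the dimension contains a non-singular vector -/
theorem ns_of_dim (hB : Sy B) (hQ : Qf B Q) (W : Submodule F V) (h : finrank F V < 2 * finrank F W) :
    ∃ w ∈ W, Q w ≠ 0 := by
  by_contra hcon
  push Not at hcon
  have hiso : ∀ v ∈ W, ∀ w ∈ W, B v w = 0 := by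
    intro v hv w hw
    have h1 := hQ.polar v w
    rw [hcon _ (W.add_mem hv hw), hcon v hv, hcon w hw] at h1
    linear_combination -h1
  let φ : V →ₗ[F] Module.Dual F W :=
    { toFun := fun z => (hB.fn z).comp W.subtype
      map_add' := fun y z => by
        ext v
        change B v (y + z) = B v y + B v z
        exact hB.add' v y z
      map_smul' := fun c z => by
        ext v
        change B v (c • z) = c • B v z
        rw [hB.smul', smul_eq_mul] }
  have hsurj : Function.Surjective φ := by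
    intro f
    obtain ⟨g, hg⟩ := LinearMap.exists_extend f
    obtain ⟨z, hz⟩ := hB.exists_rep g
    refine ⟨z, LinearMap.ext fun w => ?_⟩
    change B w z = f w
    rw [← hg, ← hz]
    rfl
  have h1 := LinearMap.finrank_range_add_finrank_ker φ
  rw [LinearMap.range_eq_top.2 hsurj, finrank_top, Subspace.dual_finrank_eq] at h1
  have h2 : W ≤ LinearMap.ker φ := by
    intro w hw
    rw [LinearMap.mem_ker]
    ext v
    exact hiso v v.2 w hw
  have h3 := Submodule.finrank_mono h2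
  omega

/-- a non-singular vector orthogonal to three vectors -/
theorem exists_ns3 (hB : Sy B) (hQ : Qf B Q) (hn : 7 ≤ finrank F V) (x y z : V) :
    ∃ w, B w x = 0 ∧ B w y = 0 ∧ B w z = 0 ∧ Q w ≠ 0 := by
  let φ : V →ₗ[F] (Fin 3 → F) := LinearMap.pi ![hB.fn x, hB.fn y, hB.fn z]
  have h1 := LinearMap.finrank_range_add_finrank_ker φ
  have h2 : finrank F (LinearMap.range φ) ≤ 3 := by
    have := Submodule.finrank_le (LinearMap.range φ)
    rwa [Module.finrank_fin_fun] at this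
  obtain ⟨w, hw, hQw⟩ := ns_of_dim hB hQ (LinearMap.ker φ) (by omega)
  rw [LinearMap.mem_ker] at hw
  exact ⟨w, congrFun hw 0, congrFun hw 1, congrFun hw 2, hQw⟩

/-- correction of the norm -/
theorem exists_fix (hB : Sy B) (hQ : Qf B Q) (hn : 7 ≤ finrank F V) (x y u : V) (l : F) :
    ∃ z, Q z = l ∧ B x z = B x u ∧ B y z = B y u := by
  obtain ⟨w, hwx, hwy, hwu, hw⟩ := exists_ns3 hB hQ hn x y u
  obtain ⟨s, hs⟩ := exists_sqrt (F := F) hB.two
  refine ⟨u + s ((l + Q u) * (Q w)⁻¹) • w, ?_, ?_, ?_⟩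
  · rw [hQ.polar, hQ.smul, hs, hB.smul', hB.symm u w, hwu, mul_zero, add_zero, mul_assoc, inv_mul_cancel₀ hw, mul_one]
    linear_combination (Q u) * hB.two
  · rw [hB.add', hB.smul', hB.symm x w, hwx, mul_zero, add_zero]
  · rw [hB.add', hB.smul', hB.symm y w, hwy, mul_zero, add_zero]

theorem exists_pair (hB : Sy B) {a : V} (ha : a ≠ 0) : ∃ z, B a z ≠ 0 := by
  by_contra hcon
  push Not at hcon
  exact ha (hB.nd a hcon)

/-- a vector of given norm not orthogonal to two vectors -/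
theorem exists_mid (hB : Sy B) (hQ : Qf B Q) (hn : 7 ≤ finrank F V) {a b : V} (ha : a ≠ 0) (hb : b ≠ 0) (l : F) :
    ∃ z, Q z = l ∧ B a z ≠ 0 ∧ B b z ≠ 0 := by
  obtain ⟨z₀, h1, h2⟩ : ∃ z, B a z ≠ 0 ∧ B b z ≠ 0 := by
    obtain ⟨z₁, h1⟩ := exists_pair hB ha
    obtain ⟨z₂, h2⟩ := exists_pair hB hb
    by_cases h3 : B b z₁ = 0
    · by_cases h4 : B a z₂ = 0
      · refine ⟨z₁ + z₂, ?_, ?_⟩
        · rw [hB.add', h4, add_zero]; exact h1
        · rw [hB.add', h3, zero_add]; exact h2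
      · exact ⟨z₂, h4, h2⟩
    · exact ⟨z₁, h1, h3⟩
  obtain ⟨z, h3, h4, h5⟩ := exists_fix hB hQ hn a b z₀ l
  exact ⟨z, h3, by rw [h4]; exact h1, by rw [h5]; exact h2⟩

/-- a vector of given norm with a given value -/
theorem exists_norm (hB : Sy B) (hQ : Qf B Q) (hn : 7 ≤ finrank F V) {z : V} (hz : z ≠ 0) (μ l : F) :
    ∃ u, Q u = l ∧ B u z = μ := by
  obtain ⟨u₁, h1⟩ := exists_pair hB hz
  obtain ⟨u, h2, h3, -⟩ := exists_fix hB hQ hn z z ((μ * (B z u₁)⁻¹) • u₁) l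
  refine ⟨u, h2, ?_⟩
  rw [hB.symm, h3, hB.smul', mul_assoc, inv_mul_cancel₀ h1, mul_one]

/-- the reflection which interchanges two vectors -/
theorem tv_swap (hB : Sy B) (hQ : Qf B Q) {x y : V} (h : Q x = Q y) (hxy : B x y ≠ 0) :
    Q (x + y) ≠ 0 ∧ hB.tv (x + y) (Q (x + y))⁻¹ x = y := by
  have h1 : Q (x + y) = B x y := by
    rw [hQ.polar, h, add_self hB.two, zero_add]
  refine ⟨by rw [h1]; exact hxy, ?_⟩
  rw [hB.tv_apply, h1, hB.add', hB.alt, zero_add, inv_mul_cancel₀ hxy, one_smul, ← add_assoc, hB.vadd_self, zero_add]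

/-- reflections fix the form -/
theorem qf_refl (hB : Sy B) (hQ : Qf B Q) {a : V} (ha : Q a ≠ 0) (v : V) : Q (hB.tv a (Q a)⁻¹ v) = Q v := by
  rw [hQ.tv hB]
  have h3 : (Q a)⁻¹ * (Q a)⁻¹ * Q a + (Q a)⁻¹ = 0 := by
    rw [mul_assoc, inv_mul_cancel₀ ha, mul_one]
    exact add_self hB.two _
  rw [h3, zero_mul, add_zero]

end vec

section grp

variable {F V T : Type*} [Field F] [AddCommGroup V] [Module F V] [FiniteDimensional F V] [Finite F] [Group T]
  {B : V → V → F} {Q : V → F} {ρ : T →* Module.End F V}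

/-- the transvection as an element of the group -/
noncomputable def tt (hB : Sy B) (hR : Rp B ρ) (w : V) (c : F) : T := (hR.full (hB.tv w c) (hB.tv_iso w c)).choose

theorem tt_spec (hB : Sy B) (hR : Rp B ρ) (w : V) (c : F) : ρ (tt hB hR w c) = (hB.tv w c).toLinearMap :=
  (hR.full (hB.tv w c) (hB.tv_iso w c)).choose_spec

theorem tt_apply (hB : Sy B) (hR : Rp B ρ) (w : V) (c : F) (v : V) :
    ρ (tt hB hR w c) v = v + (c * B v w) • w := by
  rw [tt_spec]
  rfl

theorem tt_sq (hB : Sy B) (hR : Rp B ρ) (hρ : Function.Injective ρ) (w : V) (c : F) :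
    tt hB hR w c * tt hB hR w c = 1 := by
  apply hρ
  rw [map_mul, map_one]
  apply LinearMap.ext
  intro v
  rw [Module.End.mul_apply, tt_spec]
  exact (hB.tv w c).left_inv v

theorem tt_inv (hB : Sy B) (hR : Rp B ρ) (hρ : Function.Injective ρ) (w : V) (c : F) :
    (tt hB hR w c)⁻¹ = tt hB hR w c := inv_eq_of_mul_eq_one_right (tt_sq hB hR hρ w c)

theorem conj_tt (hB : Sy B) (hR : Rp B ρ) (hρ : Function.Injective ρ) (k : T) (w : V) (c : F) :
    k * tt hB hR w c * k⁻¹ = tt hB hR (ρ k w) c := by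
  apply hρ
  apply LinearMap.ext
  intro v
  rw [map_mul, map_mul, Module.End.mul_apply, Module.End.mul_apply, tt_apply, tt_apply, map_add, map_smul,
    rho_inv_apply]
  have h1 : B (ρ k⁻¹ v) w = B v (ρ k w) := by
    conv_rhs => rw [← rho_inv_apply ρ k v]
    rw [hR.iso]
  rw [h1]

/-- all pairs of transvections: everything -/
theorem top_of_all [IsSimpleGroup T] (hB : Sy B) (hR : Rp B ρ) (hρ : Function.Injective ρ) (hn : 1 ≤ finrank F V)
    {K : Subgroup T} (hall : ∀ w c w' c', w ≠ 0 → c ≠ 0 → w' ≠ 0 → c' ≠ 0 → tt hB hR w c * tt hB hR w' c' ∈ K) :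
    K = ⊤ := by
  let S : Set T := {x | ∃ w c w' c', w ≠ 0 ∧ c ≠ 0 ∧ w' ≠ 0 ∧ c' ≠ 0 ∧ x = tt hB hR w c * tt hB hR w' c'}
  have h1 : Subgroup.normalClosure S ≤ K := by
    rw [Subgroup.normalClosure, Subgroup.closure_le]
    intro x hx
    obtain ⟨y, ⟨w, c, w', c', hw, hc, hw', hc', rfl⟩, hy⟩ := Group.mem_conjugatesOfSet_iff.1 hx
    obtain ⟨k, rfl⟩ := isConj_iff.1 hy
    have h2 : k * (tt hB hR w c * tt hB hR w' c') * k⁻¹ = (k * tt hB hR w c * k⁻¹) * (k * tt hB hR w' c' * k⁻¹) := by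
      group
    rw [h2, conj_tt hB hR hρ, conj_tt hB hR hρ]
    have h3 : ∀ w : V, w ≠ 0 → ρ k w ≠ 0 := by
      intro w hw h4
      apply hw
      rw [← rho_inv_apply' ρ k w, h4, map_zero]
    exact hall _ _ _ _ (h3 w hw) hc (h3 w' hw') hc'
  rcases (Subgroup.normalClosure_normal (s := S)).eq_bot_or_eq_top with h2 | h2
  · exfalso
    have : Nontrivial V := Module.nontrivial_of_finrank_pos (R := F) (by omega)
    obtain ⟨w, hw⟩ := exists_ne (0 : V)
    obtain ⟨w', hw'⟩ := exists_pair hB hw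
    have hw0 : w' ≠ 0 := by
      rintro rfl
      rw [hB.zero'] at hw'
      exact hw' rfl
    have h3 : tt hB hR w 1 * tt hB hR w' 1 ∈ Subgroup.normalClosure S :=
      Subgroup.subset_normalClosure ⟨w, 1, w', 1, hw, one_ne_zero, hw0, one_ne_zero, rfl⟩
    rw [h2, Subgroup.mem_bot, mul_eq_one_iff_eq_inv, tt_inv hB hR hρ] at h3
    have h4 := tt_apply hB hR w 1 w
    rw [h3, tt_apply, hB.alt, mul_zero, zero_smul, one_mul, add_zero, add_eq_left] at h4
    rcases smul_eq_zero.1 h4 with h5 | h5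
    · exact hw' h5
    · exact hw0 h5
  · rw [eq_top_iff, ← h2]
    exact h1

variable [IsSimpleGroup T]

/-- **the criterion** -/
theorem top_of_refl (hB : Sy B) (hR : Rp B ρ) (hρ : Function.Injective ρ) (hn : 7 ≤ finrank F V) (hQ : Qf B Q)
    {K : Subgroup T} (hK : ∀ a b, Q a ≠ 0 → Q b ≠ 0 → tt hB hR a (Q a)⁻¹ * tt hB hR b (Q b)⁻¹ ∈ K) {h : T}
    (hh : h ∈ K) {x : V} (hx : Q (ρ h x) ≠ Q x) : K = ⊤ := by
  -- the equivalence relation
  have hsymm : ∀ w c w' c', tt hB hR w c * tt hB hR w' c' ∈ K → tt hB hR w' c' * tt hB hR w c ∈ K := by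
    intro w c w' c' h1
    have h2 := K.inv_mem h1
    rwa [mul_inv_rev, tt_inv hB hR hρ, tt_inv hB hR hρ] at h2
  have htrans : ∀ w c w' c' w'' c'', tt hB hR w c * tt hB hR w' c' ∈ K → tt hB hR w' c' * tt hB hR w'' c'' ∈ K →
      tt hB hR w c * tt hB hR w'' c'' ∈ K := by
    intro w c w' c' w'' c'' h1 h2
    have h3 := K.mul_mem h1 h2
    have h4 : tt hB hR w c * tt hB hR w' c' * (tt hB hR w' c' * tt hB hR w'' c'') =
        tt hB hR w c * (tt hB hR w' c' * tt hB hR w' c') * tt hB hR w'' c'' := by group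
    rwa [h4, tt_sq hB hR hρ, mul_one] at h3
  have hconj : ∀ k ∈ K, ∀ w c w' c', tt hB hR w c * tt hB hR w' c' ∈ K →
      tt hB hR (ρ k w) c * tt hB hR (ρ k w') c' ∈ K := by
    intro k hk w c w' c' h1
    have h2 := K.mul_mem (K.mul_mem hk h1) (K.inv_mem hk)
    have h3 : k * (tt hB hR w c * tt hB hR w' c') * k⁻¹ = (k * tt hB hR w c * k⁻¹) * (k * tt hB hR w' c' * k⁻¹) := by
      group
    rwa [h3, conj_tt hB hR hρ, conj_tt hB hR hρ] at h2
  -- a reflection
  obtain ⟨a₀, -, -, -, ha₀⟩ := exists_ns3 hB hQ hn 0 0 0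
  have hrefl : ∀ a, Q a ≠ 0 → tt hB hR a (Q a)⁻¹ * tt hB hR a₀ (Q a₀)⁻¹ ∈ K := fun a ha => hK a a₀ ha ha₀
  -- invariance under the products of two reflections
  have hinv : ∀ k ∈ K, (∀ v, Q (ρ k v) = Q v) → ∀ w c, tt hB hR w c * tt hB hR a₀ (Q a₀)⁻¹ ∈ K →
      tt hB hR (ρ k w) c * tt hB hR a₀ (Q a₀)⁻¹ ∈ K := by
    intro k hk hkQ w c h1
    have h2 := hconj k hk _ _ _ _ h1
    refine htrans _ _ _ _ _ _ h2 ?_
    have h3 := hrefl (ρ k a₀) (by rw [hkQ]; exact ha₀)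
    rwa [hkQ] at h3
  -- the step
  have hstep : ∀ u u' : V, Q u' = Q u → B u u' ≠ 0 → ∀ c, tt hB hR u c * tt hB hR a₀ (Q a₀)⁻¹ ∈ K →
      tt hB hR u' c * tt hB hR a₀ (Q a₀)⁻¹ ∈ K := by
    intro u u' h1 h2 c h3
    obtain ⟨h4, h5⟩ := tv_swap hB hQ h1.symm h2
    obtain ⟨w, hw, -, -, hQw⟩ := exists_ns3 hB hQ hn u' u' u'
    have h6 := hinv _ (hK w (u + u') hQw h4) (fun v => by
      rw [map_mul, Module.End.mul_apply, tt_spec, tt_spec]
      change Q (hB.tv w (Q w)⁻¹ (hB.tv (u + u') (Q (u + u'))⁻¹ v)) = Q v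
      rw [qf_refl hB hQ hQw, qf_refl hB hQ h4]) u c h3
    have h7 : ρ (tt hB hR w (Q w)⁻¹ * tt hB hR (u + u') (Q (u + u'))⁻¹) u = u' := by
      rw [map_mul, Module.End.mul_apply, tt_spec hB hR (u + u')]
      change ρ (tt hB hR w (Q w)⁻¹) (hB.tv (u + u') (Q (u + u'))⁻¹ u) = u'
      rw [h5, tt_apply, hB.symm u' w, hw, mul_zero, zero_smul, add_zero]
    rwa [h7] at h6
  have hmove : ∀ u u' : V, u ≠ 0 → u' ≠ 0 → Q u' = Q u → ∀ c, tt hB hR u c * tt hB hR a₀ (Q a₀)⁻¹ ∈ K →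
      tt hB hR u' c * tt hB hR a₀ (Q a₀)⁻¹ ∈ K := by
    intro u u' hu hu' h1 c h2
    obtain ⟨z, hz, h3, h4⟩ := exists_mid hB hQ hn hu hu' (Q u)
    refine hstep z u' (by rw [h1, hz]) (by rw [hB.symm]; exact h4) c (hstep u z hz h3 c h2)
  -- the second form
  have hQ2 : Qf B fun v => Q (ρ h v) :=
    { smul := fun c v => by rw [map_smul, hQ.smul]
      polar := fun v w => by rw [map_add, hQ.polar, hR.iso] }
  obtain ⟨z, hz⟩ := Qf.diff hB hQ hQ2
  have hz0 : z ≠ 0 := by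
    rintro rfl
    apply hx
    have := hz x
    rwa [hB.zero', mul_zero, add_zero] at this
  have hK2 : ∀ a b, Q (ρ h a) ≠ 0 → Q (ρ h b) ≠ 0 → tt hB hR a (Q (ρ h a))⁻¹ * tt hB hR b (Q (ρ h b))⁻¹ ∈ K := by
    intro a b ha hb
    have h1 := hconj h⁻¹ (K.inv_mem hh) _ _ _ _ (hK _ _ ha hb)
    rwa [rho_inv_apply', rho_inv_apply'] at h1
  obtain ⟨a₁, ha₁z, -, -, ha₁⟩ := exists_ns3 hB hQ hn z z z
  have hrefl2 : ∀ a, Q (ρ h a) ≠ 0 → tt hB hR a (Q (ρ h a))⁻¹ * tt hB hR a₀ (Q a₀)⁻¹ ∈ K := by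
    intro a ha
    have h1 : Q (ρ h a₁) = Q a₁ := by
      have h2 := hz a₁
      rwa [ha₁z, mul_zero, add_zero] at h2
    have h3 := hK2 a a₁ ha (by rw [h1]; exact ha₁)
    rw [h1] at h3
    exact htrans _ _ _ _ _ _ h3 (hrefl a₁ ha₁)
  -- all transvections
  have hgood : ∀ w c, w ≠ 0 → c ≠ 0 → tt hB hR w c * tt hB hR a₀ (Q a₀)⁻¹ ∈ K := by
    intro w c hw hc
    obtain ⟨s, hs⟩ := exists_sqrt (F := F) hB.two
    obtain ⟨u, hu, huz⟩ := exists_norm hB hQ hn hz0 (s (c⁻¹ + Q w)) (Q w)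
    by_cases h1 : c⁻¹ = Q w
    · have h2 : Q w ≠ 0 := by rw [← h1]; exact inv_ne_zero hc
      have h3 := hrefl w h2
      rwa [← h1, inv_inv] at h3
    · have h2 : Q (ρ h u) = c⁻¹ := by
        have h3 := hz u
        rw [huz, hs, hu] at h3
        rw [h3]
        linear_combination (Q w) * hB.two
      have hu0 : u ≠ 0 := by
        rintro rfl
        apply h1
        rw [hB.zero] at huz
        have h3 := hs (c⁻¹ + Q w)
        rw [← huz, mul_zero] at h3
        linear_combination -h3 - (Q w) * hB.two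
      have h3 := hrefl2 u (by rw [h2]; exact inv_ne_zero hc)
      rw [h2, inv_inv] at h3
      exact hmove u w hu0 hw hu.symm c h3
  refine top_of_all hB hR hρ (by omega) (K := K) fun w c w' c' hw hc hw' hc' => ?_
  exact htrans _ _ _ _ _ _ (hgood w c hw hc) (hsymm _ _ _ _ (hgood w' c' hw' hc'))

end grp

end Cfsg.Agent.H427.Sg
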