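import Cfsg.Agent.H427.Sg.Res
import Cfsg.Agent.S5806
import Cfsg.Agent.S5824
import Cfsg.Agent.S5845
import Cfsg.Agent.S5869
import Cfsg.Agent.S2121
import Cfsg.Agent.S0814
import Cfsg.Agent.H638.G2Iso

/-!
# `PSp₂ₘ(q)`, `q` even, `m = 3, 4, 5, 6`: no residual overgroup (helper427, S3938)
-/

set_option autoImplicit false

namespace Cfsg.Agent.H427.Sg

open Module Cfsg Cfsg.Geo Cfsg.Agent.H951 Cfsg.Agent.H427.Fc Cfsg.Agent.H424.Spr
open Cfsg.Agent.ClassicalGeometry.SympBasic Cfsg.Agent.H876 Cfsg.Agent.H931 Cfsg.Agent.H262.El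
open scoped Matrix MatrixGroups Pointwise

universe u

variable {F : Type u} [Field F] [Fintype F]

omit [Fintype F] in
theorem char_two (h2 : (2 : F) = 0) {p : ℕ} (hp : p.Prime) (hch : CharP F p) : p = 2 := by
  have h3 : p ∣ 2 := (CharP.cast_eq_zero_iff F p 2).1 (by exact_mod_cast h2)
  exact (Nat.prime_dvd_prime_iff_eq hp Nat.prime_two).1 h3

/-- `|Aut G₂(q)|` -/
theorem aut_g2 {f : ℕ} (hF : Fintype.card F = 2 ^ f) (h4 : 4 ≤ 2 ^ f) :
    Nat.card (MulAut (Lie.G2 F)) ∣ (2 ^ f) ^ 6 * ((2 ^ f) ^ 2 - 1) * ((2 ^ f) ^ 6 - 1) * f := by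
  have hch : CharP F 2 := by
    obtain ⟨p, hp⟩ := CharP.exists F
    have hpp := CharP.char_is_prime F p
    obtain ⟨n, -, hn⟩ := FiniteField.card F p
    have h1 : p ∣ 2 ^ f := by rw [← hF, hn]; exact dvd_pow_self _ n.ne_zero
    have h2 := (Nat.prime_dvd_prime_iff_eq hpp Nat.prime_two).1 (hpp.dvd_of_dvd_pow h1)
    rwa [h2] at hp
  have : Fact (Nat.Prime 2) := ⟨Nat.prime_two⟩
  obtain ⟨e⟩ := H638.G2Iso.equiv (F := F)
  rw [Nat.card_congr (MulAut.congr e).toEquiv]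
  have h1 := card_aut_dvd (Lie.chevG2.group F)
  have h2 := Cfsg.Agent.S2121.result (F := F) 2 f hF (by omega)
  rw [if_neg (by norm_num)] at h2
  have h3 : Nat.card F = 2 ^ f := by rw [Nat.card_eq_fintype_card, hF]
  rw [h2, ← Nat.card_congr e.toEquiv, H638.G2Iso.card_G2, h3] at h1
  exact h1

theorem hres_three (heven : ¬ Odd (Fintype.card F)) {s : Matrix.symplecticGroup (Fin 3) F}
    {W U : Submodule F (Fin 3 ⊕ Fin 3 → F)} (h : El F 3 2 1 s W U) (K : Subgroup (PSp 3 F)) (hK : IsCoatom K)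
    (hsK : (QuotientGroup.mk s : PSp 3 F) ∈ K) : ¬ InSymplecticResidualClass (pre K) := by
  intro hS
  have h2 := two_zero_of heven
  obtain ⟨f, hf, hF⟩ := exists_pow_two h2
  obtain ⟨P, p, hc, hp, hch, hcases⟩ := S5806.result (pre K) (isMaximalIn_pre hK) hS
  have hp2 := char_two h2 hp hch
  subst hp2
  have hd := h.oa.trans (ord_dvd (by norm_num) hsK hc)
  rw [hF] at hd
  obtain ⟨u, hu, hiff, hlt, hu2, hud⟩ := exists_four hf
  have hd' := hud.trans hd
  rcases hcases with ⟨-, h3, h4⟩ | ⟨-, h4⟩ | ⟨-, h4⟩ | ⟨-, h4⟩ | ⟨⟨K', i1, i2, hK', ⟨e⟩⟩, h4⟩ | ⟨-, h4⟩ | ⟨-, h4⟩ |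
    ⟨⟨e⟩, -, h4⟩
  · omega
  · omega
  · omega
  · rw [hF] at h4
    have h5 : (2 : ℕ) ∣ 9 := by rw [← h4]; exact dvd_pow_self _ (by omega)
    omega
  · rw [Nat.card_congr (MulAut.congr e).toEquiv, H109.Cov.aut_u3 hK'] at hd
    rcases h4 with h4 | h4
    · rw [hF] at h4
      rw [h4] at hd
      norm_num at hd
    · omega
  · omega
  · omega
  · rw [Nat.card_congr (MulAut.congr e).toEquiv] at hd'
    have h5 : 4 ≤ 2 ^ f := by
      rw [hF] at h4
      have h6 : f ≠ 1 := by rintro rfl; exact h4 (by norm_num)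
      calc 4 = 2 ^ 2 := by norm_num
        _ ≤ 2 ^ f := Nat.pow_le_pow_right (by norm_num) (by omega)
    have h6 := hd'.trans (Nat.mul_dvd_mul_left 2 (aut_g2 hF h5))
    rcases hu.dvd_mul.1 h6 with h7 | h7
    · exact hu2 h7
    rcases hu.dvd_mul.1 h7 with h8 | h8
    · rcases hu.dvd_mul.1 h8 with h9 | h9
      · rcases hu.dvd_mul.1 h9 with h10 | h10
        · exact hu2 (hu.dvd_of_dvd_pow (hu.dvd_of_dvd_pow h10))
        · rw [← pow_mul] at h10
          have := Nat.le_of_dvd (by omega) ((hiff _).1 h10)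
          omega
      · rw [← pow_mul] at h9
        obtain ⟨c, hc⟩ := (hiff _).1 h9
        have h10 : f * 6 = f * (4 * c) := by rw [hc]; ring
        have := Nat.eq_of_mul_eq_mul_left (by omega : 0 < f) h10
        omega
    · have := Nat.le_of_dvd (by omega) h8
      omega

theorem hres_four (heven : ¬ Odd (Fintype.card F)) (h4 : 4 ≤ Fintype.card F) (K : Subgroup (PSp 4 F)) (hK : IsCoatom K) :
    ¬ InSymplecticResidualClass (pre K) := by
  intro hS
  have h2 := two_zero_of heven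
  obtain ⟨f, hf, hF⟩ := exists_pow_two h2
  obtain ⟨P, p, hc, hp, hch, hcases⟩ := S5824.result (pre K) (isMaximalIn_pre hK) hS
  have hp2 := char_two h2 hp hch
  subst hp2
  rcases hcases with ⟨-, h3⟩ | ⟨-, h3⟩ | ⟨-, h3⟩ | ⟨-, h3⟩ | ⟨-, h3⟩ | ⟨-, h3⟩
  · omega
  · omega
  · omega
  · omega
  · omega
  · exact heven h3

theorem hres_five (heven : ¬ Odd (Fintype.card F)) (K : Subgroup (PSp 5 F)) (hK : IsCoatom K) :
    ¬ InSymplecticResidualClass (pre K) := by
  intro hS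
  have h2 := two_zero_of heven
  obtain ⟨P, p, hc, hp, hch, hcases⟩ := S5845.result (pre K) (isMaximalIn_pre hK) hS
  have hp2 := char_two h2 hp hch
  subst hp2
  rcases hcases with ⟨-, h3⟩ | ⟨-, h3⟩ | ⟨-, -, h3⟩ | ⟨-, h3⟩
  · omega
  · omega
  · exact absurd h3 (by decide)
  · omega

/-- `|Aut PSp₄(5)|` -/
theorem aut_sp45 {K : Type} [Field K] [Fintype K] (hK : Fintype.card K = 5) :
    Nat.card (MulAut (PSp 2 K)) = 9360000 := by
  have : Fact (Nat.Prime 5) := ⟨by norm_num⟩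
  rw [S0814.result (F := K) 5 1 le_rfl (by rw [hK]; norm_num) 2 le_rfl (by norm_num)]
  have h1 := LieClassical.SympCount.card_symplecticGroup (F := K) 2
  have h2 := LieClassical.SympCenter.card_center (F := K) (m := 2) (by norm_num)
  have h3 := Subgroup.card_eq_card_quotient_mul_card_subgroup
    (Subgroup.center (Matrix.symplecticGroup (Fin 2) K))
  change _ = Nat.card (Cfsg.PSp 2 K) * _ at h3
  rw [h1, h2, hK] at h3
  norm_num [Finset.prod_range_succ] at h3
  norm_num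
  omega

theorem hres_six (heven : ¬ Odd (Fintype.card F)) (h4 : 4 ≤ Fintype.card F) {s : Matrix.symplecticGroup (Fin 6) F}
    {W U : Submodule F (Fin 6 ⊕ Fin 6 → F)} (h : El F 6 5 1 s W U) (K : Subgroup (PSp 6 F)) (hK : IsCoatom K)
    (hsK : (QuotientGroup.mk s : PSp 6 F) ∈ K) : ¬ InSymplecticResidualClass (pre K) := by
  intro hS
  have h2 := two_zero_of heven
  obtain ⟨f, hf, hF⟩ := exists_pow_two h2
  obtain ⟨P, p, hc, hp, hch, hcases⟩ := S5869.result (pre K) (isMaximalIn_pre hK) hS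
  have hp2 := char_two h2 hp hch
  subst hp2
  have hd := h.oa.trans (ord_dvd (by norm_num) hsK hc)
  rcases hcases with ⟨-, h3⟩ | ⟨-, h3⟩ | ⟨-, h3⟩ | ⟨⟨K', i1, i2, hK', ⟨e⟩⟩, h3⟩ | ⟨-, h3, h5, -⟩ | ⟨-, h3⟩ | ⟨-, h3⟩ |
    ⟨-, h3⟩ | ⟨-, h3⟩
  · omega
  · omega
  · omega
  · have h5 : Fintype.card F = 4 := by omega
    rw [Nat.card_congr (MulAut.congr e).toEquiv, aut_sp45 hK', h5] at hd
    norm_num at hd
  · exact absurd h5 (by decide)
  · omega
  · omega
  · omega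
  · omega

/-! ### the rows -/

/-- `PSp₆(q)`, `q` even -/
theorem spr_three [IsSimpleGroup (PSp 3 F)] (hna : ∃ x y : PSp 3 F, x * y ≠ y * x) (heven : ¬ Odd (Fintype.card F)) :
    Spr (PSp 3 F) := by
  obtain ⟨s, W, U, h⟩ := exists_two (F := F) (m := 3) (a := 2) (b := 1) (by norm_num) (by norm_num) (by norm_num)
    (by norm_num)
  exact spr_blocks hna (by norm_num) (by norm_num) (by norm_num) (by norm_num) (by omega) heven h
    (fun K hK hsK => hres_three heven h K hK hsK)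

/-- `PSp₈(q)`, `q ≥ 4` even -/
theorem spr_four [IsSimpleGroup (PSp 4 F)] (hna : ∃ x y : PSp 4 F, x * y ≠ y * x) (heven : ¬ Odd (Fintype.card F))
    (h4 : 4 ≤ Fintype.card F) : Spr (PSp 4 F) := by
  obtain ⟨s, W, U, h⟩ := exists_two (F := F) (m := 4) (a := 3) (b := 1) (by norm_num) (by norm_num) (by norm_num)
    (by norm_num)
  exact spr_blocks hna (by norm_num) (by norm_num) (by norm_num) (by norm_num) (by omega) heven h
    (fun K hK _ => hres_four heven h4 K hK)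

/-- `PSp₁₀(q)`, `q` even -/
theorem spr_five [IsSimpleGroup (PSp 5 F)] (hna : ∃ x y : PSp 5 F, x * y ≠ y * x) (heven : ¬ Odd (Fintype.card F)) :
    Spr (PSp 5 F) := by
  obtain ⟨s, W, U, h⟩ := exists_two (F := F) (m := 5) (a := 4) (b := 1) (by norm_num) (by norm_num) (by norm_num)
    (by norm_num)
  exact spr_blocks hna (by norm_num) (by norm_num) (by norm_num) (by norm_num) (by omega) heven h
    (fun K hK _ => hres_five heven K hK)

/-- `PSp₁₂(q)`, `q ≥ 4` even -/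
theorem spr_six [IsSimpleGroup (PSp 6 F)] (hna : ∃ x y : PSp 6 F, x * y ≠ y * x) (heven : ¬ Odd (Fintype.card F))
    (h4 : 4 ≤ Fintype.card F) : Spr (PSp 6 F) := by
  obtain ⟨s, W, U, h⟩ := exists_two (F := F) (m := 6) (a := 5) (b := 1) (by norm_num) (by norm_num) (by norm_num)
    (by norm_num)
  exact spr_blocks hna (by norm_num) (by norm_num) (by norm_num) (by norm_num) (by omega) heven h
    (fun K hK hsK => hres_six heven h4 h K hK hsK)

end Cfsg.Agent.H427.Sg
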