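import Cfsg.Agent.H427.Sg.Ext
import Cfsg.Agent.H262.ElTransv

/-!
# Uniqueness of the field normalised by an irreducible element (helper427, S3938)

* `field_unique` : two field subalgebras of the same degree which commute with an irreducible element are equal.
* `tv_not_mem`   : transvections do not normalise a field.
-/

set_option autoImplicit false
set_option linter.unusedSectionVars false

namespace Cfsg.Agent.H427.Sg

open Module Cfsg Cfsg.Geo Cfsg.Agent.H951 Cfsg.Agent.H427.Fc Cfsg.Agent.ClassicalGeometry.SympBasic
open scoped Matrix MatrixGroups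

universe u

variable {F : Type u} [Field F] [Fintype F] {ι : Type} [Fintype ι] [DecidableEq ι]

/-- elements commuting with an irreducible element: injective or zero -/
theorem inj_of_comm {z y : Matrix ι ι F} (hz : Irr (Matrix.toLin' z) ⊤) (hc : y * z = z * y) (hy : y ≠ 0) :
    Function.Injective (Matrix.toLin' y) := by
  rw [← LinearMap.ker_eq_bot]
  have h1 : Inv (Matrix.toLin' z) (LinearMap.ker (Matrix.toLin' y)) := by
    intro v hv
    rw [LinearMap.mem_ker, Matrix.toLin'_apply] at hv ⊢
    rw [Matrix.toLin'_apply, Matrix.mulVec_mulVec, hc, ← Matrix.mulVec_mulVec, hv, Matrix.mulVec_zero]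
  rcases hz.2.2 _ le_top h1 with h2 | h2
  · exact h2
  · exfalso
    apply hy
    apply Matrix.toLin'.injective
    rw [map_zero]
    exact LinearMap.ker_eq_top.1 h2

theorem comm_comm {z x y : Matrix ι ι F} (hz : Irr (Matrix.toLin' z) ⊤) (hx : x * z = z * x) (hy : y * z = z * y) :
    x * y = y * x := by
  have hlin : ∀ a b : Matrix ι ι F, a * b = b * a → Commute (Matrix.toLin' a) (Matrix.toLin' b) := by
    intro a b h
    change Matrix.toLin' a * Matrix.toLin' b = Matrix.toLin' b * Matrix.toLin' a
    rw [Module.End.mul_eq_comp, Module.End.mul_eq_comp, ← Matrix.toLin'_mul, ← Matrix.toLin'_mul, h]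
  obtain ⟨p, hp⟩ := exists_poly hz (hlin _ _ hx) (fun w _ => Submodule.mem_top)
  have h1 : Matrix.toLin' x = Polynomial.aeval (Matrix.toLin' z) p := by
    apply LinearMap.ext
    exact fun w => hp w Submodule.mem_top
  have h2 : Commute (Matrix.toLin' y) (Polynomial.aeval (Matrix.toLin' z) p) := by
    induction p using Polynomial.induction_on' with
    | add p q hp' hq' =>
      clear hp h1
      have : ∀ g : Polynomial F, Commute (Matrix.toLin' y) (Polynomial.aeval (Matrix.toLin' z) g) := by
        intro g
        induction g using Polynomial.induction_on' with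
        | add p q hp hq => rw [map_add]; exact hp.add_right hq
        | monomial n c =>
          rw [Polynomial.aeval_monomial]
          exact (Algebra.commute_algebraMap_right _ _).mul_right ((hlin _ _ hy).pow_right n)
      exact this _
    | monomial n c =>
      rw [Polynomial.aeval_monomial]
      exact (Algebra.commute_algebraMap_right _ _).mul_right ((hlin _ _ hy).pow_right n)
  rw [← h1] at h2
  apply Matrix.toLin'.injective
  rw [Matrix.toLin'_mul, Matrix.toLin'_mul, ← Module.End.mul_eq_comp, ← Module.End.mul_eq_comp]
  exact h2.eq.symm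

/-- **uniqueness** -/
theorem field_unique [Nonempty ι] {z : Matrix ι ι F} (hz : Irr (Matrix.toLin' z) ⊤) {r : ℕ}
    {K K' : Subalgebra F (Matrix ι ι F)}
    (hK : IsFieldSubalgebra r K) (hK' : IsFieldSubalgebra r K') (hc : ∀ x ∈ K, x * z = z * x)
    (hc' : ∀ x ∈ K', x * z = z * x) : K = K' := by
  classical
  have hr : 0 < r := H912.finrank_pos_fieldSub hK
  have hq := Fintype.one_lt_card (α := F)
  set N := Fintype.card F ^ r with hN
  have hN1 : 1 < N := Nat.one_lt_pow hr.ne' hq
  let C : Subalgebra F (Matrix ι ι F) := Subalgebra.centralizer F {z}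
  have hCmem : ∀ x, x ∈ C ↔ x * z = z * x := by
    intro x
    rw [Subalgebra.mem_centralizer_iff]
    simp [eq_comm]
  let _ : CommRing C := { (inferInstance : Ring C) with
    mul_comm := fun a b => Subtype.ext (comm_comm hz ((hCmem _).1 a.2) ((hCmem _).1 b.2)) }
  have hnt : Nontrivial C := inferInstance
  have hdom : NoZeroDivisors C := ⟨by
    intro a b hab
    by_contra hcon
    push Not at hcon
    obtain ⟨ha, hb⟩ := hcon
    apply hb
    have h1 := inj_of_comm hz ((hCmem _).1 a.2) (fun h => ha (Subtype.ext h))
    apply Subtype.ext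
    apply Matrix.toLin'.injective
    rw [ZeroMemClass.coe_zero, map_zero]
    apply LinearMap.ext
    intro v
    apply h1
    rw [LinearMap.zero_apply, map_zero]
    have h2 : (a : Matrix ι ι F) * (b : Matrix ι ι F) = 0 := congrArg Subtype.val hab
    rw [Matrix.toLin'_apply, Matrix.toLin'_apply, Matrix.mulVec_mulVec, h2, Matrix.zero_mulVec]⟩
  have hD : IsDomain C := NoZeroDivisors.to_isDomain C
  have hfinC : Finite C := inferInstance
  let _ : Field C := (Finite.isField_of_domain C).toField
  -- the roots
  have hroots : {y : C | y ^ N = y}.ncard ≤ N := by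
    have h1 : {y : C | y ^ N = y} = ((Polynomial.X ^ N - Polynomial.X : Polynomial C).roots.toFinset : Set C) := by
      ext y
      rw [Finset.mem_coe, Multiset.mem_toFinset,
        Polynomial.mem_roots (FiniteField.X_pow_card_sub_X_ne_zero C hN1), Polynomial.IsRoot.def]
      simp [sub_eq_zero]
    rw [h1, Set.ncard_coe_finset]
    refine (Multiset.toFinset_card_le _).trans ((Polynomial.card_roots' _).trans ?_)
    rw [FiniteField.X_pow_card_sub_X_natDegree_eq C hN1]
  have key : ∀ (L : Subalgebra F (Matrix ι ι F)), IsFieldSubalgebra r L → (∀ x ∈ L, x * z = z * x) →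
      {y : C | (y : Matrix ι ι F) ∈ L} = {y : C | y ^ N = y} := by
    intro L hL hcL
    apply Set.eq_of_subset_of_ncard_le
    · intro y hy
      let _ : Field L := (H912.isField_of_fieldSub hL).toField
      have hLfin : Finite L := Module.finite_of_finite F
      have h1 : Nat.card L = N := by
        have : Fintype L := Fintype.ofFinite L
        rw [Nat.card_eq_fintype_card, Module.card_eq_pow_finrank (K := F), hL.finrank_eq]
      have h2 : (⟨y, hy⟩ : L) ^ N = ⟨y, hy⟩ := by
        have : Fintype L := Fintype.ofFinite L
        rw [← h1, Nat.card_eq_fintype_card, FiniteField.pow_card]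
      apply Subtype.ext
      have h3 := congrArg Subtype.val h2
      rw [Subalgebra.coe_pow] at h3 ⊢
      exact h3
    · refine hroots.trans ?_
      have h1 : Nat.card L = N := by
        have hLfin : Finite L := Module.finite_of_finite F
        have : Fintype L := Fintype.ofFinite L
        rw [Nat.card_eq_fintype_card, Module.card_eq_pow_finrank (K := F), hL.finrank_eq]
      rw [← h1, ← Nat.card_coe_set_eq]
      exact Nat.card_le_card_of_injective (fun x : L => (⟨⟨x.1, (hCmem _).2 (hcL _ x.2)⟩, x.2⟩ :
        {y : C | (y : Matrix ι ι F) ∈ L})) (fun a b hab => Subtype.ext (congrArg (fun w => ((w.1 : C) : Matrix ι ι F)) hab))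
    · exact Set.toFinite _
  have h1 := (key K hK hc).trans (key K' hK' hc').symm
  apply le_antisymm
  · intro x hx
    have h2 : (⟨x, (hCmem _).2 (hc _ hx)⟩ : C) ∈ {y : C | (y : Matrix ι ι F) ∈ K} := hx
    rw [h1] at h2
    exact h2
  · intro x hx
    have h2 : (⟨x, (hCmem _).2 (hc' _ hx)⟩ : C) ∈ {y : C | (y : Matrix ι ι F) ∈ K'} := hx
    rw [← h1] at h2
    exact h2

end Cfsg.Agent.H427.Sg
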